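import Groth.Agent.GeomIrrSpread.SmoothNeutral
import Groth.Agent.GeomField.ConnComp
import Groth.Agent.H23.LocNoethTop
import Groth.Agent.S2502
import Groth.Agent.S9799
import Groth.Prelude.Def_MoreMor

/-!
# The connected component of a section in the fibres

For a smooth morphism the component of the section in a fibre is geometrically irreducible.
-/

set_option autoImplicit false
set_option linter.style.haveILetI false
set_option backward.isDefEq.respectTransparency false
set_option backward.isDefEq.respectTransparency.types false
universe u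

open AlgebraicGeometry CategoryTheory CategoryTheory.Limits TopologicalSpace

namespace Groth.Agent.SecComp5

theorem irreducibleSpace_of_normal {Y : Scheme.{u}} [IsLocallyNoetherian Y] [ConnectedSpace Y]
    (h : Pi1.IsNormalScheme Y) : IrreducibleSpace Y := by
  obtain ⟨ho, -⟩ := S9799.result Y (fun U hU => by
    haveI : CompactSpace (U : Scheme.{u}) := isCompact_iff_compactSpace.mp hU
    haveI : AlgebraicGeometry.IsNoetherian (U : Scheme.{u}) := ⟨⟩
    exact TopologicalSpace.NoetherianSpace.finite_irreducibleComponents (α := (U : Scheme.{u}))) h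
  obtain ⟨y⟩ := (inferInstance : Nonempty Y)
  have hZ := irreducibleComponent_mem_irreducibleComponents y
  have huniv := IsClopen.eq_univ ⟨isClosed_irreducibleComponent, ho _ hZ⟩ ⟨y, mem_irreducibleComponent⟩
  rw [irreducibleSpace_def, Set.top_eq_univ, ← huniv]
  exact isIrreducible_irreducibleComponent

theorem irreducibleSpace_of_smooth {K : Type u} [Field K] {Y : Scheme.{u}} (q : Y ⟶ Spec (CommRingCat.of K))
    [Smooth q] [ConnectedSpace Y] : IrreducibleSpace Y := by
  haveI : IsLocallyNoetherian Y := LocallyOfFiniteType.isLocallyNoetherian q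
  exact irreducibleSpace_of_normal (Neron6.isNormalScheme_of_smooth q (GeomIrrSpread.isNormalScheme_spec K))

theorem locallyConnectedSpace (Y : Scheme.{u}) [IsLocallyNoetherian Y] : LocallyConnectedSpace Y := by
  refine H23.LocNoethTop.locallyConnectedSpace fun y => ?_
  obtain ⟨U, hU, hy, -⟩ := exists_isAffineOpen_mem_and_subset (show y ∈ (⊤ : Y.Opens) from trivial)
  haveI : CompactSpace (U : Scheme.{u}) := isCompact_iff_compactSpace.mp hU.isCompact
  haveI : AlgebraicGeometry.IsNoetherian (U : Scheme.{u}) := ⟨⟩
  exact ⟨U, U.2.mem_nhds hy, inferInstanceAs (NoetherianSpace (U : Scheme.{u}))⟩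

/-- The component of a rational point of a smooth scheme stays irreducible after any extension. -/
theorem isIrreducible_preimage_connectedComponent {k : Type u} [Field k] {Y : Scheme.{u}}
    (q : Y ⟶ Spec (CommRingCat.of k)) [Smooth q] (σ : Spec (CommRingCat.of k) ⟶ Y) (hσ : σ ≫ q = 𝟙 _)
    (K : Type u) [Field K] [Algebra k K] :
    IsIrreducible (pullback.fst q (Spec.map (CommRingCat.ofHom (algebraMap k K))) ⁻¹'
      connectedComponent (σ (IsLocalRing.closedPoint k))) := by
  haveI : IsLocallyNoetherian Y := LocallyOfFiniteType.isLocallyNoetherian q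
  haveI := locallyConnectedSpace Y
  let p := σ (IsLocalRing.closedPoint k)
  let C : Y.Opens := ⟨connectedComponent p, isOpen_connectedComponent⟩
  haveI : ConnectedSpace (C : Scheme.{u}) := isConnected_iff_connectedSpace.1 isConnected_connectedComponent
  have hr : Set.range σ ⊆ Set.range C.ι := by
    rw [Scheme.Opens.range_ι]
    rintro _ ⟨z, rfl⟩
    rw [Subsingleton.elim z (IsLocalRing.closedPoint k)]
    exact mem_connectedComponent
  let σ' := IsOpenImmersion.lift C.ι σ hr
  haveI : GeometricallyConnected (σ' ≫ C.ι ≫ q) := by
    rw [IsOpenImmersion.lift_fac_assoc, hσ]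
    refine ⟨geometrically_iff_of_isClosedUnderIsomorphisms.mpr fun L _ x => ?_⟩
    rw [(asIso (pullback.snd (𝟙 (Spec (CommRingCat.of k))) x)).hom.homeomorph.connectedSpace_iff]
    exact { toPreconnectedSpace := inferInstance, toNonempty := ⟨IsLocalRing.closedPoint L⟩ }
  haveI : Nonempty ↥(Spec (CommRingCat.of k)) := ⟨IsLocalRing.closedPoint k⟩
  haveI := S2502.result σ' (C.ι ≫ q)
  let b := Spec.map (CommRingCat.ofHom (algebraMap k K))
  haveI : ConnectedSpace ↥(pullback (C.ι ≫ q) b) :=
    GeometricallyConnected.geometrically_connectedSpace (f := C.ι ≫ q) _ _ _ (IsPullback.of_hasPullback _ _)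
  haveI : Smooth (pullback.snd (C.ι ≫ q) b) := MorphismProperty.pullback_snd (P := @Smooth) _ _ inferInstance
  haveI := irreducibleSpace_of_smooth (pullback.snd (C.ι ≫ q) b)
  let m := (pullbackRightPullbackFstIso q b C.ι).inv ≫ pullback.snd _ _
  have hrm : Set.range m = pullback.fst q b ⁻¹' connectedComponent p := by
    rw [Scheme.Hom.comp_base, TopCat.coe_comp, Set.range_comp,
      Set.range_eq_univ.mpr (pullbackRightPullbackFstIso q b C.ι).inv.surjective,
      Set.image_univ, Scheme.Pullback.range_snd, Scheme.Opens.range_ι]
    rfl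
  rw [← hrm, ← Set.image_univ]
  exact (IrreducibleSpace.isIrreducible_univ _).image _ m.continuous.continuousOn

variable {X S : Scheme.{u}} (f : X ⟶ S)

/-- Connected components inside a fibre are images of those of the fibre scheme. -/
theorem connectedComponentIn_fiberι (s : S) (z₀ : ↥(f.fiber s)) :
    connectedComponentIn (f ⁻¹' {s}) (f.fiberι s z₀) = f.fiberι s '' connectedComponent z₀ := by
  let π := f.fiberι s
  have hπ : Topology.IsEmbedding π := (f.fiberι s).isEmbedding
  have hr : Set.range π = f ⁻¹' {s} := Scheme.Hom.range_fiberι f s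
  have hmem : π z₀ ∈ f ⁻¹' {s} := hr ▸ ⟨z₀, rfl⟩
  refine subset_antisymm ?_ ?_
  · have hsub : connectedComponentIn (f ⁻¹' {s}) (π z₀) ⊆ Set.range π :=
      hr ▸ connectedComponentIn_subset _ _
    rw [← Set.image_preimage_eq_of_subset hsub]
    refine Set.image_mono ?_
    refine _root_.IsPreconnected.subset_connectedComponent ?_ ?_
    · rw [← hπ.isInducing.isPreconnected_image, Set.image_preimage_eq_of_subset hsub]
      exact isPreconnected_connectedComponentIn
    · exact mem_connectedComponentIn hmem
  · refine (isPreconnected_connectedComponent.image _ π.continuous.continuousOn).subset_connectedComponentIn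
      ⟨_, mem_connectedComponent, rfl⟩ ?_
    rw [← hr]
    exact Set.image_subset_range _ _

variable (e : S ⟶ X) (he : e ≫ f = 𝟙 S)

include he

theorem apply_section (s : S) : f (e s) = s := by
  rw [← Scheme.Hom.comp_apply, he]
  rfl

theorem section_mem (s : S) : e s ∈ MoreMor.sectionComponents f e := by
  show e s ∈ connectedComponentIn (f ⁻¹' {f (e s)}) (e (f (e s)))
  rw [apply_section f e he s]
  exact mem_connectedComponentIn (apply_section f e he s)

/-- The section restricted to a fibre. -/
noncomputable def fibreSection (s : S) : Spec (S.residueField s) ⟶ f.fiber s :=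
  pullback.lift (S.fromSpecResidueField s ≫ e) (𝟙 _) (by rw [Category.assoc, he, Category.comp_id, Category.id_comp])

theorem fiberι_mem_iff (s : S) (z : ↥(f.fiber s)) :
    f.fiberι s z ∈ MoreMor.sectionComponents f e ↔
      z ∈ connectedComponent (fibreSection f e he s (IsLocalRing.closedPoint (S.residueField s))) := by
  have h1 : f.fiberι s (fibreSection f e he s (IsLocalRing.closedPoint (S.residueField s))) = e s := by
    rw [← Scheme.Hom.comp_apply, show fibreSection f e he s ≫ f.fiberι s = S.fromSpecResidueField s ≫ e from
      pullback.lift_fst _ _ _, Scheme.Hom.comp_apply, Scheme.fromSpecResidueField_apply]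
  have hs : f (f.fiberι s z) = s := (Scheme.Hom.range_fiberι f s).subset ⟨z, rfl⟩
  show f.fiberι s z ∈ connectedComponentIn (f ⁻¹' {f (f.fiberι s z)}) (e (f (f.fiberι s z))) ↔ _
  rw [hs, ← h1, connectedComponentIn_fiberι]
  exact (f.fiberι s).isEmbedding.injective.mem_set_image

/-- The geometric fibres of the union of the components of a section are irreducible. -/
theorem isIrreducible_preimage [Smooth f] (s : S) (L : Type u) [Field L] (a : S.residueField s →+* L) :
    IsIrreducible (pullback.fst f (Spec.map (CommRingCat.ofHom a) ≫ S.fromSpecResidueField s) ⁻¹'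
      MoreMor.sectionComponents f e) := by
  letI : Algebra (S.residueField s) L := a.toAlgebra
  haveI : Smooth (f.fiberToSpecResidueField s) := MorphismProperty.pullback_snd (P := @Smooth) _ _ inferInstance
  have h := isIrreducible_preimage_connectedComponent (k := S.residueField s) (f.fiberToSpecResidueField s)
    (fibreSection f e he s) (pullback.lift_snd _ _ _) L
  let x := Spec.map (CommRingCat.ofHom a)
  let e' := pullbackLeftPullbackSndIso f (S.fromSpecResidueField s) x
  have heq : pullback.fst f (x ≫ S.fromSpecResidueField s) ⁻¹' MoreMor.sectionComponents f e =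
      e'.hom '' (pullback.fst (f.fiberToSpecResidueField s) x ⁻¹'
        connectedComponent (fibreSection f e he s (IsLocalRing.closedPoint (S.residueField s)))) := by
    ext y
    obtain ⟨y, rfl⟩ : ∃ z, e'.hom z = y := e'.hom.surjective y
    rw [e'.hom.isOpenEmbedding.injective.mem_set_image, Set.mem_preimage, Set.mem_preimage,
      ← fiberι_mem_iff f e he s]
    have : pullback.fst f (x ≫ S.fromSpecResidueField s) (e'.hom y) =
        f.fiberι s (pullback.fst (f.fiberToSpecResidueField s) x y) := by
      rw [← Scheme.Hom.comp_apply, pullbackLeftPullbackSndIso_hom_fst, Scheme.Hom.comp_apply]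
      rfl
    rw [this]
  rw [heq]
  exact h.image _ e'.hom.continuous.continuousOn

/-- The union of the components of the section is open in each fibre. -/
theorem exists_open_inter [LocallyOfFiniteType f] (s : S) :
    ∃ O : X.Opens, (O : Set X) ∩ f ⁻¹' {s} = MoreMor.sectionComponents f e ∩ f ⁻¹' {s} := by
  haveI : LocallyOfFiniteType (f.fiberToSpecResidueField s) :=
    MorphismProperty.pullback_snd (P := @LocallyOfFiniteType) _ _ inferInstance
  haveI : IsLocallyNoetherian (f.fiber s) := LocallyOfFiniteType.isLocallyNoetherian (f.fiberToSpecResidueField s)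
  haveI := locallyConnectedSpace (f.fiber s)
  obtain ⟨O, hO, hOe⟩ := (f.fiberι s).isEmbedding.isInducing.isOpen_iff.mp
    (isOpen_connectedComponent (x := fibreSection f e he s (IsLocalRing.closedPoint (S.residueField s))))
  refine ⟨⟨O, hO⟩, ?_⟩
  ext w
  simp only [Set.mem_inter_iff, and_congr_left_iff]
  intro hw
  obtain ⟨z, rfl⟩ : w ∈ Set.range (f.fiberι s) := (Scheme.Hom.range_fiberι f s).symm ▸ hw
  rw [fiberι_mem_iff f e he s]
  exact (Set.ext_iff.1 hOe z)

end Groth.Agent.SecComp5
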