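import Groth.Agent.LimSm.Model
import Groth.Agent.LimSm.Flat
import Groth.Agent.S9218

/-!
# A noetherian model of a flat morphism with a section
-/

set_option autoImplicit false
set_option linter.style.haveILetI false
set_option backward.isDefEq.respectTransparency false
set_option backward.isDefEq.respectTransparency.types false

open AlgebraicGeometry CategoryTheory CategoryTheory.Limits Groth.Agent.MorLib Groth.Agent.ConsPropLib

namespace Groth.Agent.SecComp5

universe u

theorem exists_flat_model_section (A : Type u) [CommRing A] {X : Scheme.{u}} (f : X ⟶ Spec (CommRingCat.of A))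
    [Flat f] [LocallyOfFinitePresentation f] [QuasiCompact f] [QuasiSeparated f]
    (s : Spec (CommRingCat.of A) ⟶ X) (hs : s ≫ f = 𝟙 _) :
    ∃ (S₁ X₁ : Scheme.{u}) (f₁ : X₁ ⟶ S₁) (s₁ : S₁ ⟶ X₁) (π : Spec (CommRingCat.of A) ⟶ S₁) (q : X ⟶ X₁),
      AlgebraicGeometry.IsNoetherian S₁ ∧ Flat f₁ ∧ LocallyOfFinitePresentation f₁ ∧ QuasiCompact f₁ ∧
        QuasiSeparated f₁ ∧ s₁ ≫ f₁ = 𝟙 _ ∧ IsPullback q f f₁ π ∧ s ≫ q = π ≫ s₁ := by
  let D := NoethApprox.diagram (CommRingCat.of A)
  let c : Cone D := NoethApprox.cone (CommRingCat.of A)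
  have hc : IsLimit c := NoethApprox.isLimit (CommRingCat.of A)
  haveI : ∀ {i j} (f : i ⟶ j), IsAffineHom (D.map f) := fun f => NoethApprox.isAffineHom_map _ f
  haveI : ∀ (i j) (f : i ⟶ j), IsAffineHom (D.map f) := fun _ _ f => NoethApprox.isAffineHom_map _ f
  haveI : ∀ i, IsAffine (D.obj i) := fun i => NoethApprox.isAffine_obj _ i
  let fc : X ⟶ c.pt := f
  haveI : LocallyOfFinitePresentation fc := ‹LocallyOfFinitePresentation f›
  haveI : QuasiCompact fc := ‹QuasiCompact f›
  haveI : QuasiSeparated fc := ‹QuasiSeparated f›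
  obtain ⟨m, X₀, f₀, g₀, hm⟩ := hasModel hc fc
  haveI := hm.qc
  haveI := hm.qs
  haveI := hm.lfp
  obtain ⟨a, φa, ha⟩ := Desc.descend D c hc m (P := @Flat) (Q := @LocallyOfFinitePresentation)
    LimSm.core_flat f₀ hm.lfp (Desc.of_two @Flat hm.sq (IsPullback.of_hasPullback _ _) ‹Flat f›)
  have hM := hm.pushed φa
  haveI := hM.lfp
  haveI := hM.qc
  haveI := hM.qs
  let fa := pullback.snd f₀ (D.map φa)
  haveI := hM.compactSpace
  haveI := hM.quasiSeparatedSpace
  haveI : CompactSpace (D.obj a) := inferInstance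
  haveI : QuasiSeparatedSpace (D.obj a) := inferInstance
  obtain ⟨j, φ, fj, sX, sY, hfj, hA1, hA2, hB1, hB2, hcomm⟩ :=
    Groth.Agent.S9218.result D c hc a (𝟙 (D.obj a)) fa (c.π.app a) (𝟙 c.pt)
      IsPullback.of_id_snd (hm.push φa) fc hM.sq s hs
  let p := pullback.snd (𝟙 (D.obj a)) (D.map φ)
  haveI : IsIso p := inferInstance
  let f₁ := pullback.snd fa (D.map φ)
  have hsY : sY = hM.push φ := pullback.hom_ext (hB1.trans (hM.push_fst φ).symm) (hB2.trans (hM.push_snd φ).symm)
  refine ⟨D.obj j, pullback fa (D.map φ), f₁, inv p ≫ fj, c.π.app j, sY, NoethApprox.isNoetherian_obj _ j,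
    MorphismProperty.pullback_snd (P := @Flat) _ _ ha, (hM.pushed φ).lfp, (hM.pushed φ).qc, (hM.pushed φ).qs,
    ?_, ?_, ?_⟩
  · rw [Category.assoc, hfj, IsIso.inv_hom_id]
  · rw [hsY]
    exact (hM.pushed φ).sq
  · rw [← hcomm, ← Category.assoc]
    congr 1
    rw [← cancel_mono p, Category.assoc, IsIso.inv_hom_id, Category.comp_id, hA2]
    exact Category.id_comp _

end Groth.Agent.SecComp5
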