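import Groth.Agent.SecComp5.Nhd
import Groth.Agent.SecComp5.Model

/-!
# The components of a section of a flat morphism near a geometrically reduced fibre
-/

set_option autoImplicit false
set_option linter.style.haveILetI false
set_option backward.isDefEq.respectTransparency false
set_option backward.isDefEq.respectTransparency.types false

open AlgebraicGeometry CategoryTheory CategoryTheory.Limits TopologicalSpace

namespace Groth.Agent.SecComp5

universe u

theorem geomReduced_descend {k k' : Type u} [Field k] [Field k'] {Z Z' : Scheme.{u}}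
    (q : Z ⟶ Spec (CommRingCat.of k)) (q' : Z' ⟶ Spec (CommRingCat.of k')) (e : Z' ⟶ Z) (a : k →+* k')
    (sq : IsPullback e q' q (Spec.map (CommRingCat.ofHom a))) (z : Z') (h : FBase.IsGeomReducedAt q' z) :
    FBase.IsGeomReducedAt q (e z) := by
  letI := a.toAlgebra
  let θ := sq.isoPullback
  have hz : FBase.bcπ q k' (θ.hom z) = e z := by
    show (θ.hom ≫ pullback.fst q (Spec.map (CommRingCat.ofHom a))) z = e z
    exact congrArg (fun m : Z' ⟶ Z => m z) sq.isoPullback_hom_fst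
  have h1 : θ.inv ≫ q' = FBase.bcStr q k' := by
    rw [Iso.inv_comp_eq]
    exact sq.isoPullback_hom_snd.symm
  rw [← hz, GeomField.isGeomReducedAt_bc_iff q k', ← h1]
  refine isGeomReducedAt_openImmersion θ.inv q' (θ.hom z) ?_
  rwa [show θ.inv (θ.hom z) = z from congrArg (fun m : Z' ⟶ Z' => m z) θ.hom_inv_id]

theorem isGeomReducedAt_of_geometricallyReduced {k : Type u} [Field k] {Z : Scheme.{u}}
    (q : Z ⟶ Spec (CommRingCat.of k)) (hq : GeometricallyReduced q) (z : Z) : FBase.IsGeomReducedAt q z := by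
  intro K _ _ z' _
  haveI : AlgebraicGeometry.IsReduced (FBase.bc q K) :=
    pullback_of_geometrically hq.geometrically_isReduced K _
  infer_instance

theorem isUnivOpenAt_of_universallyOpen {X Y : Scheme.{u}} (f : X ⟶ Y) [hf : UniversallyOpen f] (x : X) :
    EGA43.IsUnivOpenAt f x := by
  intro Y' g' z' _
  have : UniversallyOpen (Limits.pullback.snd f g') := MorphismProperty.pullback_snd (P := @UniversallyOpen) _ _ hf
  exact fun U hU => (Limits.pullback.snd f g').isOpenMap.image_mem_nhds hU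

variable {X Y : Scheme.{u}} (f : X ⟶ Y) (g : Y ⟶ X) (hg : g ≫ f = 𝟙 Y)

include hg

theorem interior_bc {X' Y' : Scheme.{u}} (f' : X' ⟶ Y') (p : X' ⟶ X) (h : Y' ⟶ Y) (sq : IsPullback p f' f h)
    (g' : Y' ⟶ X') (hg' : g' ≫ f' = 𝟙 Y') (hgp : g' ≫ p = h ≫ g) (y' : Y')
    (H : connectedComponentIn (f ⁻¹' {h y'}) (g (h y')) ⊆ interior (MoreMor.sectionComponents f g)) :
    connectedComponentIn (f' ⁻¹' {y'}) (g' y') ⊆ interior (MoreMor.sectionComponents f' g') := by
  intro x hx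
  have hsc := S1324.result f g hg f' p h sq g' hg' hgp
  have hxy : f' x = y' := connectedComponentIn_subset (f' ⁻¹' {y'}) (g' y') hx
  have hxs : x ∈ MoreMor.sectionComponents f' g' := by
    show x ∈ connectedComponentIn (f' ⁻¹' {f' x}) (g' (f' x))
    rw [hxy]
    exact hx
  rw [hsc] at hxs
  have hfp : f (p x) = h y' := by rw [← Scheme.Hom.comp_apply, sq.w, Scheme.Hom.comp_apply, hxy]
  have hpx : p x ∈ connectedComponentIn (f ⁻¹' {h y'}) (g (h y')) := by
    rw [← hfp]
    exact hxs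
  rw [hsc]
  exact preimage_interior_subset_interior_preimage p.continuous (H hpx)

theorem component_subset_interior_affine [IsAffine Y] [Flat f] [LocallyOfFinitePresentation f] [QuasiCompact f]
    [QuasiSeparated f] (y : Y)
    (hred : ∀ z : ↥(f.fiber y), f.fiberι y z ∈ MoreMor.sectionComponents f g →
      FBase.IsGeomReducedAt (f.fiberToSpecResidueField y) z) :
    connectedComponentIn (f ⁻¹' {y}) (g y) ⊆ interior (MoreMor.sectionComponents f g) := by
  let e := Y.isoSpec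
  obtain ⟨S₁, X₁, f₁, s₁, π, q, hS₁, hflat, hlfp, hqc, hqs, hs₁, sq, hsq⟩ :=
    exists_flat_model_section Γ(Y, ⊤) (f ≫ e.hom) (e.inv ≫ g) (by
      rw [Category.assoc, ← Category.assoc g, hg, Category.id_comp, Iso.inv_hom_id])
  haveI := hflat; haveI := hlfp
  have sq' : IsPullback q f f₁ (e.hom ≫ π) :=
    IsPullback.of_iso sq (Iso.refl _) (Iso.refl _) e.symm (Iso.refl _) (by simp) (by simp) (by simp) (by simp)
  have hgq : g ≫ q = (e.hom ≫ π) ≫ s₁ := by
    rw [Category.assoc, ← hsq, ← Category.assoc, ← Category.assoc, Iso.hom_inv_id, Category.id_comp]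
  refine interior_bc f₁ s₁ hs₁ f q (e.hom ≫ π) sq' g hg hgq y ?_
  haveI : UniversallyOpen f₁ := UniversallyOpen.of_flat f₁
  refine component_subset_interior f₁ s₁ hs₁ _ fun z₁ hz₁ hz₁y => ?_
  refine ⟨isUnivOpenAt_of_universallyOpen f₁ z₁, fun s w hw => ?_⟩
  have hs : s = (e.hom ≫ π) y := by
    rw [← hz₁y, ← hw]
    exact ((f₁.range_fiberι s).le ⟨w, rfl⟩).symm
  subst hs
  obtain ⟨c, hc, hcι⟩ := ConsPropLib.exists_fibre_pullback sq' y
  obtain ⟨z, -, hz⟩ : ∃ z, z ∈ Set.univ ∧ c z = w := by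
    haveI : Surjective (Spec.map ((e.hom ≫ π).residueFieldMap y)) := ⟨fun _ => ⟨IsLocalRing.closedPoint _, Subsingleton.elim _ _⟩⟩
    haveI : Surjective c := MorphismProperty.of_isPullback hc.flip inferInstance
    exact ⟨(c.surjective w).choose, trivial, (c.surjective w).choose_spec⟩
  rw [← hz]
  refine geomReduced_descend (k := S₁.residueField ((e.hom ≫ π) y)) (k' := Y.residueField y)
    (f₁.fiberToSpecResidueField ((e.hom ≫ π) y)) (f.fiberToSpecResidueField y) c ((e.hom ≫ π).residueFieldMap y).hom hc z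
    (hred z ?_)
  rw [S1324.result f₁ s₁ hs₁ f q (e.hom ≫ π) sq' g hg hgq, Set.mem_preimage, ← Scheme.Hom.comp_apply, ← hcι,
    Scheme.Hom.comp_apply, hz, hw]
  exact hz₁

/-- The components of a section of a flat morphism of finite presentation contain a neighbourhood of a
geometrically reduced component. -/
theorem component_subset_interior_flat [Flat f] [LocallyOfFinitePresentation f] [QuasiCompact f]
    [QuasiSeparated f] (y : Y)
    (hred : ∀ z : ↥(f.fiber y), f.fiberι y z ∈ connectedComponentIn (f ⁻¹' {y}) (g y) →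
      FBase.IsGeomReducedAt (f.fiberToSpecResidueField y) z) :
    connectedComponentIn (f ⁻¹' {y}) (g y) ⊆ interior (MoreMor.sectionComponents f g) := by
  obtain ⟨V, hV, hyV, -⟩ := exists_isAffineOpen_mem_and_subset (show y ∈ (⊤ : Y.Opens) from trivial)
  haveI : IsAffine V.toScheme := hV
  let f₁ := f ∣_ V
  haveI : Flat f₁ := IsZariskiLocalAtTarget.restrict ‹_› _
  haveI : LocallyOfFinitePresentation f₁ := IsZariskiLocalAtTarget.restrict ‹_› _
  haveI : QuasiCompact f₁ := IsZariskiLocalAtTarget.restrict ‹_› _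
  haveI : QuasiSeparated f₁ := IsZariskiLocalAtTarget.restrict ‹_› _
  have hr : Set.range (V.ι ≫ g) ⊆ Set.range (f ⁻¹ᵁ V).ι := by
    rw [Scheme.Opens.range_ι]
    rintro _ ⟨t, rfl⟩
    show f (g (V.ι t)) ∈ V
    rw [apply_section f g hg]
    exact t.2
  let g₁ := IsOpenImmersion.lift (f ⁻¹ᵁ V).ι (V.ι ≫ g) hr
  have hg₁ι : g₁ ≫ (f ⁻¹ᵁ V).ι = V.ι ≫ g := IsOpenImmersion.lift_fac _ _ _
  have hg₁ : g₁ ≫ f₁ = 𝟙 _ := by
    rw [← cancel_mono V.ι, Category.assoc, morphismRestrict_ι, reassoc_of% hg₁ι, hg, Category.comp_id,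
      Category.id_comp]
  have sq := (isPullback_morphismRestrict f V).flip
  have hsc : MoreMor.sectionComponents f₁ g₁ = (f ⁻¹ᵁ V).ι ⁻¹' MoreMor.sectionComponents f g :=
    S1324.result f g hg f₁ _ V.ι sq g₁ hg₁ hg₁ι
  have H := component_subset_interior_affine f₁ g₁ hg₁ ⟨y, hyV⟩ fun z hz => by
    obtain ⟨c, hc, hcι⟩ := ConsPropLib.exists_fibre_pullback sq (⟨y, hyV⟩ : (V : Scheme.{u}))
    refine geomReduced_of_pullback (k := Y.residueField (V.ι ⟨y, hyV⟩)) (k' := (V : Scheme.{u}).residueField ⟨y, hyV⟩)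
      (f.fiberToSpecResidueField (V.ι ⟨y, hyV⟩)) (f₁.fiberToSpecResidueField ⟨y, hyV⟩) c
      (V.ι.residueFieldMap ⟨y, hyV⟩).hom hc z (hred (c z) ?_)
    rw [hsc, Set.mem_preimage, ← Scheme.Hom.comp_apply, ← hcι, Scheme.Hom.comp_apply] at hz
    have hy : f (f.fiberι (V.ι ⟨y, hyV⟩) (c z)) = y := (f.range_fiberι (V.ι ⟨y, hyV⟩)).le ⟨c z, rfl⟩
    have hz' : f.fiberι (V.ι ⟨y, hyV⟩) (c z) ∈
        connectedComponentIn (f ⁻¹' {f (f.fiberι (V.ι ⟨y, hyV⟩) (c z))}) (g (f (f.fiberι (V.ι ⟨y, hyV⟩) (c z)))) := hz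
    rw [hy] at hz'
    exact hz'
  intro x hx
  have hxy : f x = y := connectedComponentIn_subset (f ⁻¹' {y}) (g y) hx
  have hxV : x ∈ f ⁻¹ᵁ V := by
    show f x ∈ V
    rw [hxy]
    exact hyV
  let x₁ : (f ⁻¹ᵁ V : Scheme.{u}) := ⟨x, hxV⟩
  have hx₁ : x₁ ∈ connectedComponentIn (f₁ ⁻¹' {(⟨y, hyV⟩ : (V : Scheme.{u}))}) (g₁ ⟨y, hyV⟩) := by
    have hf₁ : f₁ x₁ = (⟨y, hyV⟩ : (V : Scheme.{u})) := by
      apply Subtype.ext
      show V.ι (f₁ x₁) = y
      rw [← Scheme.Hom.comp_apply, morphismRestrict_ι, Scheme.Hom.comp_apply]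
      exact hxy
    have : x₁ ∈ MoreMor.sectionComponents f₁ g₁ := by
      rw [hsc]
      show x ∈ connectedComponentIn (f ⁻¹' {f x}) (g (f x))
      rw [hxy]
      exact hx
    rw [← hf₁]
    exact this
  refine interior_mono ?_ ((f ⁻¹ᵁ V).ι.isOpenEmbedding.isOpenMap.image_interior_subset _ ⟨x₁, H hx₁, rfl⟩)
  rintro _ ⟨w, hw, rfl⟩
  rw [hsc] at hw
  exact hw

end Groth.Agent.SecComp5
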