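import Groth.Agent.SecComp5.Fibre

/-!
# The union of the components of a section of a smooth morphism is open
-/

set_option autoImplicit false
set_option linter.style.haveILetI false
set_option backward.isDefEq.respectTransparency false
set_option backward.isDefEq.respectTransparency.types false
universe u

open AlgebraicGeometry CategoryTheory CategoryTheory.Limits TopologicalSpace

namespace Groth.Agent.SecComp5

open GeomIrrSpread

variable {X S : Scheme.{u}} (f : X ⟶ S) (e : S ⟶ X) (he : e ≫ f = 𝟙 S) [Smooth f]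

include he

/-- The union of the components of the section is stable under generization. -/
theorem mem_of_specializes {x y : X} (hx : x ∈ MoreMor.sectionComponents f e) (hy : y ⤳ x) :
    y ∈ MoreMor.sectionComponents f e := by
  have hsp : (𝟙 X : X ⟶ X) y ⤳ x := hy
  obtain ⟨A, hA, hloc⟩ := IsLocalRing.exists_factor_valuationRing (Proj16.specMapResidue hsp).hom
  obtain ⟨g, hg1, hg2⟩ := Proj16.exists_path hsp A hA hloc
  rw [Category.comp_id] at hg2
  let O := CommRingCat.of A
  let gp : Spec O := Spec.map (CommRingCat.ofHom A.subtype) (IsLocalRing.closedPoint (X.residueField y))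
  have hgp : gp.asIdeal = ⊥ := by
    show (IsLocalRing.maximalIdeal (X.residueField y)).comap A.subtype = ⊥
    rw [IsLocalRing.maximalIdeal_eq_bot]
    exact (RingHom.injective_iff_ker_eq_bot A.subtype).mp Subtype.val_injective
  have hggp : g gp = y := by
    show g (Spec.map (CommRingCat.ofHom A.subtype) _) = y
    rw [← Scheme.Hom.comp_apply, hg2]
    exact Scheme.fromSpecResidueField_apply _ _
  let h : Spec O ⟶ S := g ≫ f
  let σ : Spec O ⟶ pullback f h := pullback.lift g (𝟙 _) (by rw [Category.id_comp])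
  let τ : Spec O ⟶ pullback f h := pullback.lift (h ≫ e) (𝟙 _)
    (by rw [Category.assoc, he, Category.comp_id, Category.id_comp])
  let K := IsLocalRing.ResidueField A
  let c : Spec (CommRingCat.of K) ⟶ Spec O := Spec.map (CommRingCat.ofHom (IsLocalRing.residue A))
  have hc : c (IsLocalRing.closedPoint K) = IsLocalRing.closedPoint A :=
    IsLocalRing.comap_closedPoint (IsLocalRing.residue A)
  have hcpt : (c ≫ h) (IsLocalRing.closedPoint K) = f x := by
    show f (g (c _)) = f x
    rw [hc, hg1]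
  have hirr : IsIrreducible (pullback.fst f (c ≫ h) ⁻¹' MoreMor.sectionComponents f e) := by
    obtain ⟨⟨s, φ⟩, hφ⟩ := (Scheme.SpecToEquivOfField K S).symm.surjective (c ≫ h)
    replace hφ : Spec.map φ ≫ S.fromSpecResidueField s = c ≫ h := hφ
    rw [← hφ]
    exact isIrreducible_preimage f e he s K φ.hom
  let u₀ : Spec (CommRingCat.of K) ⟶ pullback f (c ≫ h) :=
    pullback.lift (c ≫ g) (𝟙 _) (by rw [Category.assoc, Category.id_comp])
  let u₁ : Spec (CommRingCat.of K) ⟶ pullback f (c ≫ h) :=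
    pullback.lift (c ≫ h ≫ e) (𝟙 _) (by rw [Category.assoc, Category.assoc, he, Category.comp_id, Category.id_comp])
  let m : pullback f (c ≫ h) ⟶ pullback f h :=
    pullback.map f (c ≫ h) f h (𝟙 _) c (𝟙 _) (by simp) (by simp)
  have hu₀ : u₀ (IsLocalRing.closedPoint K) ∈ pullback.fst f (c ≫ h) ⁻¹' MoreMor.sectionComponents f e := by
    show pullback.fst f (c ≫ h) (u₀ (IsLocalRing.closedPoint K)) ∈ MoreMor.sectionComponents f e
    rw [← Scheme.Hom.comp_apply, pullback.lift_fst, Scheme.Hom.comp_apply, hc, hg1]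
    exact hx
  have hu₁ : u₁ (IsLocalRing.closedPoint K) ∈ pullback.fst f (c ≫ h) ⁻¹' MoreMor.sectionComponents f e := by
    show pullback.fst f (c ≫ h) (u₁ (IsLocalRing.closedPoint K)) ∈ MoreMor.sectionComponents f e
    rw [← Scheme.Hom.comp_apply, pullback.lift_fst, ← Category.assoc, Scheme.Hom.comp_apply, hcpt]
    exact section_mem f e he _
  have hm₀ : m (u₀ (IsLocalRing.closedPoint K)) = σ (IsLocalRing.closedPoint A) := by
    have : u₀ ≫ m = c ≫ σ := by
      apply pullback.hom_ext <;> simp [u₀, m, σ]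
      exact Category.id_comp c
    rw [← Scheme.Hom.comp_apply, this, Scheme.Hom.comp_apply, hc]
  have hm₁ : m (u₁ (IsLocalRing.closedPoint K)) = τ (IsLocalRing.closedPoint A) := by
    have : u₁ ≫ m = c ≫ τ := by
      apply pullback.hom_ext <;> simp [u₁, m, τ]
      exact Category.id_comp c
    rw [← Scheme.Hom.comp_apply, this, Scheme.Hom.comp_apply, hc]
  have hξg := hirr.isGenericPoint_genericPoint_closure
  let ξ := m hirr.genericPoint
  let R₀ := σ (IsLocalRing.closedPoint A)
  let R₁ := τ (IsLocalRing.closedPoint A)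
  have hξ₀ : ξ ⤳ R₀ := by
    show m hirr.genericPoint ⤳ σ (IsLocalRing.closedPoint A)
    rw [← hm₀]
    exact (hξg.specializes (subset_closure hu₀)).map m.continuous
  have hξ₁ : ξ ⤳ R₁ := by
    show m hirr.genericPoint ⤳ τ (IsLocalRing.closedPoint A)
    rw [← hm₁]
    exact (hξg.specializes (subset_closure hu₁)).map m.continuous
  haveI : Smooth (pullback.snd f h) := MorphismProperty.pullback_snd (P := @Smooth) _ _ inferInstance
  have hnorm := Neron6.isNormalScheme_of_smooth (pullback.snd f h) (isNormalScheme_spec A)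
  have hgen : ∀ R : ↥(pullback f h), ∃ η, η ⤳ R ∧ ∀ z, z ⤳ R → η ⤳ z := by
    intro R
    haveI := (hnorm R).1
    refine ⟨(pullback f h).fromSpecStalk R (⟨⊥, Ideal.isPrime_bot⟩ : PrimeSpectrum _), ?_, fun z hz => ?_⟩
    · have : (pullback f h).fromSpecStalk R (⟨⊥, Ideal.isPrime_bot⟩ : PrimeSpectrum _) ∈
          Set.range ((pullback f h).fromSpecStalk R) := ⟨_, rfl⟩
      rwa [Scheme.range_fromSpecStalk] at this
    · have : z ∈ Set.range ((pullback f h).fromSpecStalk R) := by
        rw [Scheme.range_fromSpecStalk]; exact hz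
      obtain ⟨p, rfl⟩ := this
      exact ((PrimeSpectrum.le_iff_specializes (⟨⊥, Ideal.isPrime_bot⟩ : PrimeSpectrum _) p).mp bot_le).map
        (Scheme.Hom.continuous _)
  obtain ⟨η₀, hη₀, hmin₀⟩ := hgen R₀
  obtain ⟨η₁, hη₁, hmin₁⟩ := hgen R₁
  have h₀₁ : η₀ ⤳ η₁ :=
    hmin₀ η₁ ((hmin₁ η₀ ((hmin₀ ξ hξ₀).trans hξ₁)).trans hη₀)
  have hgc : gp ⤳ IsLocalRing.closedPoint A := IsLocalRing.specializes_closedPoint gp
  have hP := hmin₀ (σ gp) (hgc.map σ.continuous)
  have hQ := h₀₁.trans (hmin₁ (τ gp) (hgc.map τ.continuous))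
  have hη : pullback.snd f h η₀ = gp := by
    have h1 := hP.map (pullback.snd f h).continuous
    rw [← Scheme.Hom.comp_apply, pullback.lift_snd] at h1
    have h2 := (PrimeSpectrum.le_iff_specializes _ _).mpr h1
    refine PrimeSpectrum.ext (le_antisymm h2 ?_)
    show gp.asIdeal ≤ _
    rw [hgp]
    exact bot_le
  let π := pullback.fst f h
  have hπf : f (π η₀) = f y := by
    rw [← Scheme.Hom.comp_apply, pullback.condition, Scheme.Hom.comp_apply, hη, ← hggp]
    rfl
  have hπy : π η₀ ⤳ y := by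
    have h1 := hP.map π.continuous
    rwa [← Scheme.Hom.comp_apply σ π, pullback.lift_fst, hggp] at h1
  have hπe : π η₀ ⤳ e (f y) := by
    have h1 := hQ.map π.continuous
    rw [← Scheme.Hom.comp_apply τ π, pullback.lift_fst, show (h ≫ e) gp = e (f (g gp)) from rfl, hggp] at h1
    exact h1
  have hpre : _root_.IsPreconnected (closure {π η₀} ∩ f ⁻¹' {f y}) :=
    isPreconnected_singleton.subset_closure (Set.singleton_subset_iff.mpr ⟨subset_closure rfl, hπf⟩)
      Set.inter_subset_left
  exact hpre.subset_connectedComponentIn ⟨hπe.mem_closure, apply_section f e he _⟩ Set.inter_subset_right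
    ⟨hπy.mem_closure, rfl⟩

variable {V : S.Opens} (hV : IsAffineOpen V) {W : X.Opens} (hW : IsAffineOpen W) (hWV : W ≤ f ⁻¹ᵁ V)

omit he [Smooth f] in
include hV hW in
theorem range_fst_fromSpec (p : Spec Γ(S, V)) (L : Type u) [Field L] (ρ : Γ(S, V) ⟶ CommRingCat.of L)
    (hρ : RingHom.ker ρ.hom = p.asIdeal) :
    Set.range (pullback.fst (hW.fromSpec ≫ f) (Spec.map ρ ≫ hV.fromSpec) ≫ hW.fromSpec) =
      (W : Set X) ∩ f ⁻¹' {hV.fromSpec p} := by
  rw [Scheme.Hom.comp_base, TopCat.coe_comp, Set.range_comp, Scheme.Pullback.range_fst, range_geomPt hV p L ρ hρ,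
    Scheme.Hom.comp_base, TopCat.coe_comp, Set.preimage_comp, Set.image_preimage_eq_inter_range,
    hW.range_fromSpec, Set.inter_comm]

omit he in
include hV hW in
theorem isIrreducible_inter_fibre (p : Spec Γ(S, V)) (hp : p ∈ chartLocus (G := Over.mk f) hWV) :
    IsIrreducible ((W : Set X) ∩ f ⁻¹' {hV.fromSpec p}) := by
  haveI : LocallyOfFinitePresentation (W.ι ≫ (Over.mk f).hom) := inferInstanceAs (LocallyOfFinitePresentation (W.ι ≫ f))
  have hfp := finitePresentation_appLE (G := Over.mk f) hV hW hWV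
  let L := AlgebraicClosure p.asIdeal.ResidueField
  let ρ : Γ(S, V) ⟶ CommRingCat.of L := CommRingCat.ofHom (algebraMap Γ(S, V) L)
  have hρ : RingHom.ker ρ.hom = p.asIdeal := ker_algebraMap_algebraicClosure p.asIdeal
  haveI : IrreducibleSpace ↥(pullback (hW.fromSpec ≫ f) (Spec.map ρ ≫ hV.fromSpec)) :=
    (mem_chartLocus_iff (G := Over.mk f) hV hW hWV hfp p L ρ hρ).mp hp
  rw [← range_fst_fromSpec f hV hW p L ρ hρ, ← Set.image_univ]
  exact (IrreducibleSpace.isIrreducible_univ _).image _ (Scheme.Hom.continuous _).continuousOn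

include hV hW in
theorem mem_chartLocus_of_subset (p : Spec Γ(S, V)) (hne : ((W : Set X) ∩ f ⁻¹' {hV.fromSpec p}).Nonempty)
    (hsub : (W : Set X) ∩ f ⁻¹' {hV.fromSpec p} ⊆ MoreMor.sectionComponents f e) :
    p ∈ chartLocus (G := Over.mk f) hWV := by
  haveI : LocallyOfFinitePresentation (W.ι ≫ (Over.mk f).hom) := inferInstanceAs (LocallyOfFinitePresentation (W.ι ≫ f))
  have hfp := finitePresentation_appLE (G := Over.mk f) hV hW hWV
  let t := hV.fromSpec p
  let L := AlgebraicClosure (S.residueField t)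
  let a : S.residueField t →+* L := algebraMap _ L
  let g := Spec.map (CommRingCat.ofHom a) ≫ S.fromSpecResidueField t
  have hg : Set.range g = {t} := by
    rw [Scheme.Hom.comp_base, TopCat.coe_comp, Set.range_comp,
      Set.range_eq_univ.mpr (Function.surjective_to_subsingleton (α := Spec (CommRingCat.of L))
        (β := Spec (CommRingCat.of (S.residueField t))) _),
      Set.image_univ]
    exact Scheme.range_fromSpecResidueField t
  have hgV : Set.range g ⊆ Set.range hV.fromSpec := by rw [hg]; exact Set.singleton_subset_iff.mpr ⟨p, rfl⟩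
  obtain ⟨ρ, hρ⟩ := Spec.map_surjective (IsOpenImmersion.lift hV.fromSpec g hgV)
  have hρg : Spec.map ρ ≫ hV.fromSpec = g := by rw [hρ, IsOpenImmersion.lift_fac]
  have hker : RingHom.ker ρ.hom = p.asIdeal := by
    have h : Spec.map ρ (IsLocalRing.closedPoint L) = p := hV.fromSpec.isOpenEmbedding.injective (by
      rw [← Scheme.Hom.comp_apply, hρg]
      exact hg.le ⟨_, rfl⟩)
    rw [← h]
    show _ = (IsLocalRing.maximalIdeal L).comap ρ.hom
    rw [IsLocalRing.maximalIdeal_eq_bot, RingHom.ker_eq_comap_bot]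
  refine (mem_chartLocus_iff (G := Over.mk f) hV hW hWV hfp p L ρ hker).mpr ?_
  rw [hρg]
  show IrreducibleSpace ↥(pullback (hW.fromSpec ≫ f) g)
  have hC := isIrreducible_preimage f e he t L a
  let k := (pullbackRightPullbackFstIso f g hW.fromSpec).inv ≫ pullback.snd _ _
  haveI : IsOpenImmersion k := inferInstance
  have hrk : Set.range k = pullback.fst f g ⁻¹' (W : Set X) := by
    rw [Scheme.Hom.comp_base, TopCat.coe_comp, Set.range_comp,
      Set.range_eq_univ.mpr (pullbackRightPullbackFstIso f g hW.fromSpec).inv.surjective,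
      Set.image_univ, Scheme.Pullback.range_snd, hW.range_fromSpec]
  have hk : Set.range k ⊆ pullback.fst f g ⁻¹' MoreMor.sectionComponents f e := by
    rw [hrk]
    refine fun y hy => hsub ⟨hy, ?_⟩
    show f (pullback.fst f g y) = t
    rw [← Scheme.Hom.comp_apply, pullback.condition, Scheme.Hom.comp_apply]
    exact hg.le ⟨_, rfl⟩
  obtain ⟨w, hwW, hwt⟩ := hne
  obtain ⟨y, hy⟩ : w ∈ Set.range (pullback.fst f g) := by
    rw [Scheme.Pullback.range_fst, hg]
    exact hwt
  have hne' : (Set.range k).Nonempty := ⟨y, by rw [hrk, Set.mem_preimage, hy]; exact hwW⟩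
  haveI : Nonempty ↥(pullback (hW.fromSpec ≫ f) g) := by
    obtain ⟨_, z, rfl⟩ := hne'
    exact ⟨z⟩
  have hpre := (hC.isPreirreducible.open_subset k.isOpenEmbedding.isOpen_range hk).preimage k.isOpenEmbedding
  rw [Set.preimage_range] at hpre
  exact { isPreirreducible_univ := hpre, toNonempty := inferInstance }

/-- The union of the components of the section is ind-constructible. -/
theorem isIndConstructible : ProCons.IsIndConstructible (MoreMor.sectionComponents f e) := by
  intro x₀
  obtain ⟨V, hV, hxV, -⟩ := exists_isAffineOpen_mem_and_subset (show f x₀ ∈ (⊤ : S.Opens) from trivial)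
  obtain ⟨U, hU, hxU, hUV⟩ := exists_isAffineOpen_mem_and_subset (show x₀ ∈ f ⁻¹ᵁ V from hxV)
  refine ⟨U, U.isOpen, hxU, {T | Topology.IsLocallyConstructible T ∧
    T ⊆ Subtype.val ⁻¹' MoreMor.sectionComponents f e}, fun T hT => hT.1,
    subset_antisymm ?_ (Set.sUnion_subset fun T hT => hT.2)⟩
  rintro ⟨z, hzU⟩ hz
  replace hz : z ∈ MoreMor.sectionComponents f e := hz
  let t := f z
  have hes : f (e t) = t := apply_section f e he t
  obtain ⟨p, hp⟩ : f z ∈ Set.range hV.fromSpec := hV.range_fromSpec.symm ▸ hUV hzU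
  obtain ⟨O, hO⟩ := exists_open_inter f e he t
  have hzO : z ∈ O := ((Set.ext_iff.1 hO z).2 ⟨hz, rfl⟩).1
  have heO : e t ∈ O := ((Set.ext_iff.1 hO (e t)).2 ⟨section_mem f e he t, hes⟩).1
  obtain ⟨W, hW, heW, hWO⟩ := exists_isAffineOpen_mem_and_subset
    (show e t ∈ O ⊓ f ⁻¹ᵁ V from ⟨heO, by show f (e t) ∈ V; rw [hes]; exact hUV hzU⟩)
  obtain ⟨Z, hZ, hzZ, hZO⟩ := exists_isAffineOpen_mem_and_subset (show z ∈ O ⊓ U from ⟨hzO, hzU⟩)
  have hWV : W ≤ f ⁻¹ᵁ V := fun w hw => (hWO hw).2
  have hZV : Z ≤ f ⁻¹ᵁ V := fun w hw => hUV (hZO hw).2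
  have hWc : p ∈ chartLocus (G := Over.mk f) hWV := mem_chartLocus_of_subset f e he hV hW hWV p
    (by rw [hp]; exact ⟨e t, heW, hes⟩)
    (by rw [hp]; exact fun w hw => ((Set.ext_iff.1 hO w).1 ⟨(hWO hw.1).1, hw.2⟩).1)
  have hZc : p ∈ chartLocus (G := Over.mk f) hZV := mem_chartLocus_of_subset f e he hV hZ hZV p
    (by rw [hp]; exact ⟨z, hzZ, rfl⟩)
    (by rw [hp]; exact fun w hw => ((Set.ext_iff.1 hO w).1 ⟨(hZO hw.1).1, hw.2⟩).1)
  have hmeet : ((W ⊓ Z : X.Opens) : Set X) ∩ f ⁻¹' {t} ≠ ∅ := by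
    have hirr := isIrreducible_preimage f e he t (AlgebraicClosure (S.residueField t)) (algebraMap _ _)
    let g := Spec.map (CommRingCat.ofHom (algebraMap (S.residueField t) (AlgebraicClosure (S.residueField t)))) ≫
      S.fromSpecResidueField t
    have hg : Set.range g = {t} := by
      rw [Scheme.Hom.comp_base, TopCat.coe_comp, Set.range_comp,
        Set.range_eq_univ.mpr (Function.surjective_to_subsingleton
          (α := Spec (CommRingCat.of (AlgebraicClosure (S.residueField t))))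
          (β := Spec (CommRingCat.of (S.residueField t))) _),
        Set.image_univ]
      exact Scheme.range_fromSpecResidueField t
    have hfg : ∀ w, f w = t → ∃ w', pullback.fst f g w' = w := fun w hw => by
      show w ∈ Set.range (pullback.fst f g)
      rw [Scheme.Pullback.range_fst, hg]
      exact hw
    obtain ⟨w1, hw1⟩ := hfg _ hes
    obtain ⟨w2, hw2⟩ := hfg _ (rfl : f z = t)
    obtain ⟨w, hw, hwW, hwZ⟩ := hirr.2 (pullback.fst f g ⁻¹' (W : Set X)) (pullback.fst f g ⁻¹' (Z : Set X))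
      (W.isOpen.preimage (Scheme.Hom.continuous _)) (Z.isOpen.preimage (Scheme.Hom.continuous _))
      ⟨w1, by rw [Set.mem_preimage, hw1]; exact section_mem f e he t, by rw [Set.mem_preimage, hw1]; exact heW⟩
      ⟨w2, by rw [Set.mem_preimage, hw2]; exact hz, by rw [Set.mem_preimage, hw2]; exact hzZ⟩
    intro hem
    refine Set.eq_empty_iff_forall_notMem.1 hem (pullback.fst f g w) ⟨⟨hwW, hwZ⟩, ?_⟩
    show f (pullback.fst f g w) = t
    rw [← Scheme.Hom.comp_apply, pullback.condition, Scheme.Hom.comp_apply]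
    exact hg.le ⟨_, rfl⟩
  obtain ⟨w, hwWZ, hwt⟩ := Set.nonempty_iff_ne_empty.2 hmeet
  -- a basic neighbourhood over which the section meets `W` and the two charts meet
  let N : Set (Spec Γ(S, V)) := hV.fromSpec ⁻¹' ((e ⁻¹' (W : Set X)) ∩ f '' ((W ⊓ Z : X.Opens) : Set X))
  have hN : IsOpen N :=
    ((W.isOpen.preimage e.continuous).inter (f.isOpenMap _ (W ⊓ Z).isOpen)).preimage hV.fromSpec.continuous
  have hpN : p ∈ N := by
    show hV.fromSpec p ∈ (e ⁻¹' (W : Set X)) ∩ f '' ((W ⊓ Z : X.Opens) : Set X)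
    rw [hp]
    exact ⟨heW, w, hwWZ, hwt⟩
  obtain ⟨_, ⟨r, rfl⟩, hpr, hrN⟩ := PrimeSpectrum.isTopologicalBasis_basic_opens.exists_subset_of_mem_open hpN hN
  let good : Set (Spec Γ(S, V)) :=
    chartLocus (G := Over.mk f) hWV ∩ chartLocus (G := Over.mk f) hZV ∩ ((PrimeSpectrum.basicOpen r : Opens (PrimeSpectrum Γ(S, V))) : Set (PrimeSpectrum Γ(S, V)))
  haveI : LocallyOfFinitePresentation (W.ι ≫ (Over.mk f).hom) := inferInstanceAs (LocallyOfFinitePresentation (W.ι ≫ f))
  haveI : LocallyOfFinitePresentation (Z.ι ≫ (Over.mk f).hom) := inferInstanceAs (LocallyOfFinitePresentation (Z.ι ≫ f))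
  have hgood : Topology.IsConstructible good :=
    ((isConstructible_chartLocus hWV (finitePresentation_appLE (G := Over.mk f) hV hW hWV)).inter
      (isConstructible_chartLocus hZV (finitePresentation_appLE (G := Over.mk f) hV hZ hZV))).inter
      PrimeSpectrum.isConstructible_basicOpen
  have hr : Set.range (U.ι ≫ f) ⊆ Set.range hV.fromSpec := by
    rw [hV.range_fromSpec]
    rintro _ ⟨q, rfl⟩
    exact hUV q.2
  let b : (U : Scheme.{u}) ⟶ Spec Γ(S, V) := IsOpenImmersion.lift hV.fromSpec (U.ι ≫ f) hr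
  have hb : ∀ q : (U : Scheme.{u}), hV.fromSpec (b q) = f q.1 := fun q => by
    rw [← Scheme.Hom.comp_apply, IsOpenImmersion.lift_fac]
    rfl
  haveI : IsAffine (U : Scheme.{u}) := hU
  have hZc' : Topology.IsConstructible (U.ι ⁻¹' (Z : Set X) : Set (U : Scheme.{u})) := by
    refine IsCompact.isConstructible ?_ (Z.isOpen.preimage U.ι.continuous)
    exact (U.ι.isOpenEmbedding.isInducing.isCompact_preimage_iff
      (by rw [Scheme.Opens.range_ι]; exact fun q hq => (hZO hq).2)).mpr hZ.isCompact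
  refine ⟨U.ι ⁻¹' (Z : Set X) ∩ b ⁻¹' good,
    ⟨(hZc'.inter (b.isConstructible_preimage hgood)).isLocallyConstructible, ?_⟩, hzZ, ?_⟩
  · rintro ⟨q, hqU⟩ ⟨hqZ, ⟨hqW, hqZ'⟩, hqr⟩
    replace hqZ : q ∈ Z := hqZ
    show q ∈ connectedComponentIn (f ⁻¹' {f q}) (e (f q))
    have hbq : hV.fromSpec (b ⟨q, hqU⟩) = f q := hb _
    obtain ⟨heq, v, hv, hvq⟩ := (hrN hqr : b ⟨q, hqU⟩ ∈ N)
    rw [hbq] at hvq
    replace heq : e (f q) ∈ W := hbq ▸ heq
    have h1 := (isIrreducible_inter_fibre f hV hW hWV _ hqW).isConnected.isPreconnected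
    have h2 := (isIrreducible_inter_fibre f hV hZ hZV _ hqZ').isConnected.isPreconnected
    rw [hbq] at h1 h2
    exact (IsPreconnected.union v (s := (W : Set X) ∩ f ⁻¹' {f q}) (t := (Z : Set X) ∩ f ⁻¹' {f q}) ⟨hv.1, hvq⟩ ⟨hv.2, hvq⟩ h1 h2).subset_connectedComponentIn
      (Or.inl ⟨heq, apply_section f e he _⟩) (Set.union_subset Set.inter_subset_right Set.inter_subset_right)
      (Or.inr ⟨hqZ, rfl⟩)
  · have : b ⟨z, hzU⟩ = p := hV.fromSpec.isOpenEmbedding.injective ((hb _).trans hp.symm)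
    show b ⟨z, hzU⟩ ∈ good
    rw [this]
    exact ⟨⟨hWc, hZc⟩, hpr⟩

/-- The union of the components of a section of a smooth morphism is open. -/
theorem isOpen_sectionComponents : IsOpen (MoreMor.sectionComponents f e) := by
  rw [← interior_eq_iff_isOpen]
  refine subset_antisymm interior_subset fun x hx => ?_
  exact (S3403.result X _ (isIndConstructible f e he) x).mpr fun y hy => mem_of_specializes f e he hx hy

end Groth.Agent.SecComp5
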