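import Groth.Agent.SecComp5.Generize
import Groth.Agent.GeomComp5.SectionCons
import Groth.Agent.S3402
import Groth.Agent.S3403

/-!
# The union of the components of a section is a neighbourhood of a good component
-/

set_option autoImplicit false
set_option linter.style.haveILetI false
set_option backward.isDefEq.respectTransparency false
set_option backward.isDefEq.respectTransparency.types false

open AlgebraicGeometry CategoryTheory CategoryTheory.Limits TopologicalSpace

namespace Groth.Agent.SecComp5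

universe u

variable {X S : Scheme.{u}} (f : X ⟶ S) (e : S ⟶ X) (he : e ≫ f = 𝟙 S)

include he

/-- The component of the section in a fibre, seen inside a quasi-compact open. -/
theorem exists_compact_open [LocallyOfFiniteType f] (y : S) (V : S.Opens) (hV : IsAffineOpen V) (hyV : y ∈ V)
    {x : X} (hx : x ∈ connectedComponentIn (f ⁻¹' {y}) (e y)) :
    ∃ W : X.Opens, IsCompact (W : Set X) ∧ W ≤ f ⁻¹ᵁ V ∧ (∀ t ∈ V, e t ∈ W) ∧
      x ∈ connectedComponentIn ((W : Set X) ∩ f ⁻¹' {y}) (e y) := by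
  let P : X → Prop := fun z => ∃ W : X.Opens, IsCompact (W : Set X) ∧ W ≤ f ⁻¹ᵁ V ∧ (∀ t ∈ V, e t ∈ W) ∧
      z ∈ connectedComponentIn ((W : Set X) ∩ f ⁻¹' {y}) (e y)
  have hmem : ∀ t ∈ V, e t ∈ f ⁻¹ᵁ V := fun t ht => by
    show f (e t) ∈ V
    rw [apply_section f e he]
    exact ht
  have hV' : IsCompact (e '' (V : Set S)) := hV.isCompact.image e.continuous
  choose U hU hxU hUV using fun z : ↑((f ⁻¹ᵁ V : X.Opens) : Set X) => exists_isAffineOpen_mem_and_subset z.2
  have base : P (e y) := by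
    obtain ⟨F, hF⟩ := hV'.elim_finite_subcover (fun z => (U z : Set X)) (fun z => (U z).isOpen) (by
      rintro _ ⟨t, ht, rfl⟩
      exact Set.mem_iUnion.2 ⟨⟨e t, hmem t ht⟩, hxU _⟩)
    refine ⟨⟨⋃ z ∈ F, (U z : Set X), isOpen_biUnion fun z _ => (U z).isOpen⟩,
      F.isCompact_biUnion fun z _ => (hU z).isCompact, fun w hw => ?_, fun t ht => hF ⟨t, ht, rfl⟩,
      mem_connectedComponentIn ⟨hF ⟨y, hyV, rfl⟩, apply_section f e he y⟩⟩
    obtain ⟨z, hz⟩ := Set.mem_iUnion.1 hw
    obtain ⟨-, hwz⟩ := Set.mem_iUnion.1 hz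
    exact hUV z hwz
  haveI : LocallyOfFiniteType (f.fiberToSpecResidueField y) :=
    MorphismProperty.pullback_snd (P := @LocallyOfFiniteType) _ _ inferInstance
  haveI : IsLocallyNoetherian (f.fiber y) := LocallyOfFiniteType.isLocallyNoetherian (f.fiberToSpecResidueField y)
  haveI := locallyConnectedSpace (f.fiber y)
  let ι := f.fiberι y
  have hι : ∀ a, f (ι a) = y := fun a => (f.range_fiberι y).le ⟨a, rfl⟩
  let D : Set (f.fiber y) := {z | P (ι z)}
  have hN : ∀ z : f.fiber y, ∃ N : Set (f.fiber y), IsOpen N ∧ z ∈ N ∧ ∀ a ∈ N, ∀ b ∈ N, P (ι a) → P (ι b) := by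
    intro z
    have hzV : ι z ∈ f ⁻¹ᵁ V := by
      show f (ι z) ∈ V
      rw [hι]
      exact hyV
    let U₁ := U ⟨ι z, hzV⟩
    have hzU : z ∈ ι ⁻¹' (U₁ : Set X) := hxU ⟨ι z, hzV⟩
    refine ⟨connectedComponentIn (ι ⁻¹' (U₁ : Set X)) z, (U₁.isOpen.preimage ι.continuous).connectedComponentIn,
      mem_connectedComponentIn hzU, fun a ha b hb hP => ?_⟩
    obtain ⟨W, hW, hWV, heW, haW⟩ := hP
    refine ⟨W ⊔ U₁, ?_, sup_le hWV (hUV ⟨ι z, hzV⟩), fun t ht => Or.inl (heW t ht), ?_⟩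
    · exact hW.union (hU ⟨ι z, hzV⟩).isCompact
    · have h1 : ι a ∈ connectedComponentIn (((W ⊔ U₁ : X.Opens) : Set X) ∩ f ⁻¹' {y}) (e y) :=
        connectedComponentIn_mono _ (Set.inter_subset_inter_left _ (show (W : Set X) ⊆ (W ⊔ U₁ : X.Opens) from
          fun w hw => Or.inl hw)) haW
      rw [connectedComponentIn_eq h1]
      refine (isPreconnected_connectedComponentIn.image ι ι.continuous.continuousOn).subset_connectedComponentIn
        (x := ι a) ⟨a, ha, rfl⟩ ?_ ⟨b, hb, rfl⟩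
      rintro _ ⟨c, hc, rfl⟩
      exact ⟨Or.inr (connectedComponentIn_subset (ι ⁻¹' (U₁ : Set X)) z hc : c ∈ ι ⁻¹' (U₁ : Set X)), hι c⟩
  have hD : IsClopen D := by
    refine ⟨⟨isOpen_iff_mem_nhds.2 fun z hz => ?_⟩, isOpen_iff_mem_nhds.2 fun z hz => ?_⟩
    · obtain ⟨N, hNo, hzN, hNP⟩ := hN z
      exact Filter.mem_of_superset (hNo.mem_nhds hzN) fun b hb hPb => hz (hNP b hb z hzN hPb)
    · obtain ⟨N, hNo, hzN, hNP⟩ := hN z
      exact Filter.mem_of_superset (hNo.mem_nhds hzN) fun b hb => hNP z hzN b hb hz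
  obtain ⟨z₀, hz₀⟩ : e y ∈ Set.range ι := (f.range_fiberι y).symm ▸ apply_section f e he y
  rw [← hz₀, connectedComponentIn_fiberι] at hx
  obtain ⟨z, hz, rfl⟩ := hx
  have : z₀ ∈ D := show P (ι z₀) from hz₀.symm ▸ base
  exact hD.connectedComponent_subset this hz

/-- The union of the components of a section contains a neighbourhood of every good component. -/
theorem component_subset_interior [IsLocallyNoetherian S] [LocallyOfFiniteType f] (y : S)
    (hgood : ∀ z ∈ MoreMor.sectionComponents f e, f z = y → Good f z) :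
    connectedComponentIn (f ⁻¹' {y}) (e y) ⊆ interior (MoreMor.sectionComponents f e) := by
  intro x hx
  obtain ⟨V, hV, hyV, -⟩ := exists_isAffineOpen_mem_and_subset (show y ∈ (⊤ : S.Opens) from trivial)
  obtain ⟨W, hW, hWV, heW, hxW⟩ := exists_compact_open f e he y V hV hyV hx
  haveI : IsAffine V.toScheme := hV
  haveI : IsLocallyNoetherian V.toScheme := isLocallyNoetherian_of_isOpenImmersion V.ι
  haveI : AlgebraicGeometry.IsNoetherian V.toScheme := {}
  let f₁ : (W : Scheme.{u}) ⟶ V := f.resLE V W hWV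
  have hf₁ : ∀ w, (f₁ w).1 = f w.1 := fun w => by
    show V.ι (f₁ w) = f (W.ι w)
    rw [← Scheme.Hom.comp_apply, Scheme.Hom.resLE_comp_ι, Scheme.Hom.comp_apply]
  haveI : LocallyOfFiniteType f₁ := inferInstanceAs (LocallyOfFiniteType (f.resLE V W hWV))
  haveI : CompactSpace (W : Scheme.{u}) := isCompact_iff_compactSpace.mp hW
  haveI : IsLocallyNoetherian (W : Scheme.{u}) := LocallyOfFiniteType.isLocallyNoetherian f₁
  haveI : AlgebraicGeometry.IsNoetherian (W : Scheme.{u}) := {}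
  haveI : QuasiCompact f₁ := inferInstance
  have hr : Set.range (V.ι ≫ e) ⊆ Set.range W.ι := by
    rw [Scheme.Opens.range_ι]
    rintro _ ⟨t, rfl⟩
    exact heW _ t.2
  let e₁ : (V : Scheme.{u}) ⟶ W := IsOpenImmersion.lift W.ι (V.ι ≫ e) hr
  have he₁ι : e₁ ≫ W.ι = V.ι ≫ e := IsOpenImmersion.lift_fac _ _ _
  have he₁ : e₁ ≫ f₁ = 𝟙 _ := by
    rw [← cancel_mono V.ι, Category.assoc, Scheme.Hom.resLE_comp_ι, reassoc_of% he₁ι, he, Category.comp_id,
      Category.id_comp]
  have he₁v : ∀ t, W.ι (e₁ t) = e t.1 := fun t => by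
    rw [← Scheme.Hom.comp_apply, he₁ι, Scheme.Hom.comp_apply]
    rfl
  have hsub : ∀ w ∈ MoreMor.sectionComponents f₁ e₁, W.ι w ∈ MoreMor.sectionComponents f e := by
    intro w hw
    show W.ι w ∈ connectedComponentIn (f ⁻¹' {f (W.ι w)}) (e (f (W.ι w)))
    refine (isPreconnected_connectedComponentIn.image W.ι W.ι.continuous.continuousOn).subset_connectedComponentIn
      (x := e (f (W.ι w))) ⟨e₁ (f₁ w), mem_connectedComponentIn (apply_section f₁ e₁ he₁ _), ?_⟩ ?_
      ⟨w, hw, rfl⟩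
    · rw [he₁v, hf₁]
      rfl
    · rintro _ ⟨v, hv, rfl⟩
      show f v.1 = f w.1
      rw [← hf₁, ← hf₁, show f₁ v = f₁ w from connectedComponentIn_subset (f₁ ⁻¹' {f₁ w}) (e₁ (f₁ w)) hv]
  have hxW' : x ∈ W := (connectedComponentIn_subset _ _ hxW).1
  have hxy : f x = y := (connectedComponentIn_subset _ _ hxW).2
  let x₁ : (W : Scheme.{u}) := ⟨x, hxW'⟩
  have hfx₁ : (f₁ x₁).1 = y := (hf₁ x₁).trans hxy
  have hx₁ : x₁ ∈ MoreMor.sectionComponents f₁ e₁ := by
    show x₁ ∈ connectedComponentIn (f₁ ⁻¹' {f₁ x₁}) (e₁ (f₁ x₁))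
    let K := connectedComponentIn ((W : Set X) ∩ f ⁻¹' {y}) (e y)
    have hK : W.ι '' (W.ι ⁻¹' K) = K := Set.image_preimage_eq_of_subset (by
      rw [Scheme.Opens.range_ι]
      exact (connectedComponentIn_subset _ _).trans Set.inter_subset_left)
    have hpre : _root_.IsPreconnected (W.ι ⁻¹' K) := by
      rw [← W.ι.isOpenEmbedding.isInducing.isPreconnected_image, hK]
      exact isPreconnected_connectedComponentIn
    refine hpre.subset_connectedComponentIn (x := e₁ (f₁ x₁)) ?_ (fun v hv => ?_) hxW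
    · show W.ι (e₁ (f₁ x₁)) ∈ K
      rw [he₁v, hfx₁]
      exact mem_connectedComponentIn ⟨heW y hyV, apply_section f e he y⟩
    · apply Subtype.ext
      rw [hf₁, hfx₁]
      exact (connectedComponentIn_subset _ _ hv).2
  have hgood₁ : ∀ z ∈ MoreMor.sectionComponents f₁ e₁, f₁ z = f₁ x₁ → Good f₁ z := by
    intro z hz hzx
    have h1 : Good f ((f ⁻¹ᵁ V).ι (X.homOfLE hWV z)) := by
      rw [← Scheme.Hom.comp_apply, Scheme.homOfLE_ι]
      refine hgood _ (hsub z hz) ?_
      show f z.1 = y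
      rw [← hf₁, hzx, hfx₁]
    have h2 := good_openImmersion (X.homOfLE hWV) (f ∣_ V)
      (good_baseChange (isPullback_morphismRestrict f V).flip h1)
    exact h2
  have hint : x₁ ∈ interior (MoreMor.sectionComponents f₁ e₁) :=
    (S3403.result _ _ ((S3402.result _ _).1
      (GeomComp5.isConstructible_sectionComponents f₁ e₁ he₁).isLocallyConstructible).1 x₁).2
      fun y' hy' => mem_of_specializes_good f₁ e₁ he₁ hx₁ hy' hgood₁
  refine interior_mono ?_ (W.ι.isOpenEmbedding.isOpenMap.image_interior_subset _ ⟨x₁, hint, rfl⟩)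
  rintro _ ⟨w, hw, rfl⟩
  exact hsub w hw

end Groth.Agent.SecComp5
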