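import Groth.Agent.GeomField.Reduced
import Groth.Agent.ConsPropLib.PointwiseProps
import Groth.Prelude.Def_EGA43

/-!
# Universal openness and geometric reducedness of the fibre at a point
-/

set_option autoImplicit false
set_option linter.style.haveILetI false
set_option backward.isDefEq.respectTransparency false
set_option backward.isDefEq.respectTransparency.types false

open AlgebraicGeometry CategoryTheory CategoryTheory.Limits

namespace Groth.Agent.SecComp5

universe u

variable {X S : Scheme.{u}}

/-- Universally open at the point and geometrically reduced there in the fibre. -/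
def Good (f : X ⟶ S) (x : X) : Prop :=
  EGA43.IsUnivOpenAt f x ∧
    ∀ (s : S) (z : ↥(f.fiber s)), f.fiberι s z = x → FBase.IsGeomReducedAt (f.fiberToSpecResidueField s) z

theorem good_of (f : X ⟶ S) (x : X) (h₁ : EGA43.IsUnivOpenAt f x)
    (h₂ : FBase.IsGeomReducedAt (f.fiberToSpecResidueField (f.base x)) (f.asFiber x)) : Good f x := by
  refine ⟨h₁, fun s z hz => ?_⟩
  have hs : f x = s := by
    rw [← hz]
    exact (f.range_fiberι s).le ⟨z, rfl⟩
  subst hs
  have hzx : z = f.asFiber x := (f.fiberι (f x)).isEmbedding.injective (by rw [hz, f.fiberι_asFiber])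
  rw [hzx]
  exact h₂

theorem univOpenAt_openImmersion_comp {Z X Y : Scheme.{u}} (j : Z ⟶ X) [IsOpenImmersion j] (f : X ⟶ Y) (z : Z)
    (h : EGA43.IsUnivOpenAt f (j.base z)) : EGA43.IsUnivOpenAt (j ≫ f) z := by
  intro Y' e z' hz' N hN
  let j' : pullback (j ≫ f) e ⟶ pullback f e := pullback.lift (pullback.fst (j ≫ f) e ≫ j) (pullback.snd (j ≫ f) e)
    (by rw [Category.assoc, pullback.condition])
  have h1 : j' ≫ pullback.fst f e = pullback.fst (j ≫ f) e ≫ j := pullback.lift_fst _ _ _
  have h2 : j' ≫ pullback.snd f e = pullback.snd (j ≫ f) e := pullback.lift_snd _ _ _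
  have hsq : IsPullback (pullback.fst (j ≫ f) e) j' j (pullback.fst f e) := by
    refine IsPullback.of_bot (v₂₁ := pullback.snd f e) ?_ h1.symm (IsPullback.of_hasPullback f e)
    rw [h2]
    exact IsPullback.of_hasPullback (j ≫ f) e
  haveI : IsOpenImmersion j' := MorphismProperty.of_isPullback hsq inferInstance
  have hq : (pullback.fst f e).base (j'.base z') = j.base z := by
    rw [← Scheme.Hom.comp_apply, h1, Scheme.Hom.comp_apply, hz']
  have := h Y' e (j'.base z') hq (j'.base '' N) (j'.isOpenEmbedding.isOpenMap.image_mem_nhds hN)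
  have he : (pullback.snd f e).base (j'.base z') = (pullback.snd (j ≫ f) e).base z' := by
    rw [← Scheme.Hom.comp_apply, h2]
  rw [he, ← Set.image_comp] at this
  refine Filter.mem_of_superset this ?_
  rintro _ ⟨w, hw, rfl⟩
  exact ⟨w, hw, by rw [Function.comp_apply, ← Scheme.Hom.comp_apply, h2]⟩

theorem univOpenAt_bc {X Y Y' : Scheme.{u}} (f : X ⟶ Y) (e : Y' ⟶ Y) (x' : ↥(pullback f e))
    (h : EGA43.IsUnivOpenAt f ((pullback.fst f e).base x')) : EGA43.IsUnivOpenAt (pullback.snd f e) x' := by
  intro Y'' e' z hz N hN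
  let ε : pullback (pullback.snd f e) e' ≅ pullback f (e' ≫ e) := pullbackLeftPullbackSndIso f e e'
  have h1 : ε.hom ≫ pullback.snd f (e' ≫ e) = pullback.snd (pullback.snd f e) e' :=
    pullbackLeftPullbackSndIso_hom_snd f e e'
  have h2 : ε.hom ≫ pullback.fst f (e' ≫ e) = pullback.fst (pullback.snd f e) e' ≫ pullback.fst f e :=
    pullbackLeftPullbackSndIso_hom_fst f e e'
  have hq : (pullback.fst f (e' ≫ e)).base (ε.hom.base z) = (pullback.fst f e).base x' := by
    rw [← Scheme.Hom.comp_apply, h2, Scheme.Hom.comp_apply, hz]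
  have := h Y'' (e' ≫ e) (ε.hom.base z) hq (ε.hom.base '' N)
    (ε.hom.homeomorph.isOpenMap.image_mem_nhds hN)
  have he : (pullback.snd f (e' ≫ e)).base (ε.hom.base z) = (pullback.snd (pullback.snd f e) e').base z := by
    rw [← Scheme.Hom.comp_apply, h1]
  rw [he, ← Set.image_comp] at this
  refine Filter.mem_of_superset this ?_
  rintro _ ⟨w, hw, rfl⟩
  exact ⟨w, hw, by rw [Function.comp_apply, ← Scheme.Hom.comp_apply, h1]⟩

/-- A base change of an open immersion preserves geometric reducedness at a point. -/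
theorem isGeomReducedAt_openImmersion {k : Type u} [Field k] {U V : Scheme.{u}} (j : U ⟶ V) [IsOpenImmersion j]
    (q : V ⟶ Spec (CommRingCat.of k)) (u : U) (h : FBase.IsGeomReducedAt q (j u)) :
    FBase.IsGeomReducedAt (j ≫ q) u := by
  intro K _ _ x' hx'
  let t := Spec.map (CommRingCat.ofHom (algebraMap k K))
  let j' : pullback (j ≫ q) t ⟶ pullback q t := pullback.lift (pullback.fst (j ≫ q) t ≫ j) (pullback.snd (j ≫ q) t)
    (by rw [Category.assoc, pullback.condition])
  have h1 : j' ≫ pullback.fst q t = pullback.fst (j ≫ q) t ≫ j := pullback.lift_fst _ _ _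
  have hsq : IsPullback (pullback.fst (j ≫ q) t) j' j (pullback.fst q t) := by
    refine IsPullback.of_bot (v₂₁ := pullback.snd q t) ?_ h1.symm (IsPullback.of_hasPullback q t)
    rw [show j' ≫ pullback.snd q t = pullback.snd (j ≫ q) t from pullback.lift_snd _ _ _]
    exact IsPullback.of_hasPullback (j ≫ q) t
  haveI : IsOpenImmersion j' := MorphismProperty.of_isPullback hsq inferInstance
  have hr : _root_.IsReduced ((pullback q t).presheaf.stalk (j' x')) := by
    refine h K (j' x') ?_
    show pullback.fst q t (j' x') = j u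
    rw [← hx', ← Scheme.Hom.comp_apply, h1, Scheme.Hom.comp_apply]
    rfl
  haveI := hr
  exact isReduced_of_injective (inv (j'.stalkMap x')).hom
    (ConcreteCategory.bijective_of_isIso (inv (j'.stalkMap x'))).injective

theorem geomReduced_of_pullback {k k' : Type u} [Field k] [Field k'] {Z Z' : Scheme.{u}}
    (q : Z ⟶ Spec (CommRingCat.of k)) (q' : Z' ⟶ Spec (CommRingCat.of k')) (e : Z' ⟶ Z) (a : k →+* k')
    (sq : IsPullback e q' q (Spec.map (CommRingCat.ofHom a))) (z : Z') (h : FBase.IsGeomReducedAt q (e z)) :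
    FBase.IsGeomReducedAt q' z := by
  letI := a.toAlgebra
  let θ := sq.isoPullback
  have h1 : θ.hom ≫ FBase.bcStr q k' = q' := sq.isoPullback_hom_snd
  rw [← h1]
  refine isGeomReducedAt_openImmersion θ.hom (FBase.bcStr q k') z ?_
  rw [← GeomField.isGeomReducedAt_bc_iff q k']
  rwa [show FBase.bcπ q k' (θ.hom z) = e z from by
    show (θ.hom ≫ pullback.fst q (Spec.map (CommRingCat.ofHom a))) z = e z
    exact congrArg (fun m : Z' ⟶ Z => m z) sq.isoPullback_hom_fst]

theorem good_baseChange {X' S' : Scheme.{u}} {f : X ⟶ S} {f' : X' ⟶ S'} {p : X' ⟶ X} {g : S' ⟶ S}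
    (sq : IsPullback p f' f g) {x' : X'} (h : Good f (p x')) : Good f' x' := by
  refine ⟨?_, fun s z hz => ?_⟩
  · have hfst : pullback.fst f g (sq.isoPullback.hom x') = p x' := by
      rw [← Scheme.Hom.comp_apply, sq.isoPullback_hom_fst]
    have h1 := univOpenAt_bc f g (sq.isoPullback.hom x') (by rw [hfst]; exact h.1)
    have h2 := univOpenAt_openImmersion_comp sq.isoPullback.hom (pullback.snd f g) x' h1
    rwa [sq.isoPullback_hom_snd] at h2
  · obtain ⟨e, he, hee⟩ := ConsPropLib.exists_fibre_pullback sq s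
    refine geomReduced_of_pullback (k := S.residueField (g s)) (k' := S'.residueField s)
      (f.fiberToSpecResidueField (g s)) (f'.fiberToSpecResidueField s) e (g.residueFieldMap s).hom he z ?_
    refine h.2 (g s) (e z) ?_
    rw [← hz, ← Scheme.Hom.comp_apply, ← Scheme.Hom.comp_apply, hee]

theorem good_openImmersion {U : Scheme.{u}} (j : U ⟶ X) [IsOpenImmersion j] (f : X ⟶ S) {x : U}
    (h : Good f (j x)) : Good (j ≫ f) x := by
  refine ⟨univOpenAt_openImmersion_comp j f x h.1, fun s z hz => ?_⟩
  let i : (j ≫ f).fiber s ⟶ f.fiber s := MoreMor.fiberMap j f s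
  haveI : IsOpenImmersion i := MorphismProperty.of_isPullback (ConsPropLib.isPullback_fiberMap j f s) inferInstance
  have h1 : i ≫ f.fiberToSpecResidueField s = (j ≫ f).fiberToSpecResidueField s := ConsPropLib.fiberMap_comp_toSpec j f s
  rw [← h1]
  refine isGeomReducedAt_openImmersion (k := S.residueField s) i (f.fiberToSpecResidueField s) z (h.2 s (i z) ?_)
  rw [← hz, ← Scheme.Hom.comp_apply, ConsPropLib.fiberMap_comp_ι, Scheme.Hom.comp_apply]

theorem isReduced_stalk_of_geomReducedAt {k : Type u} [Field k] {Z : Scheme.{u}}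
    (q : Z ⟶ Spec (CommRingCat.of k)) (z : Z) (h : FBase.IsGeomReducedAt q z) :
    _root_.IsReduced (Z.presheaf.stalk z) := by
  haveI : IsIso (Spec.map (CommRingCat.ofHom (algebraMap k k))) := by
    rw [show CommRingCat.ofHom (algebraMap k k) = 𝟙 (CommRingCat.of k) from rfl, Spec.map_id]
    infer_instance
  haveI : IsIso (FBase.bcπ q k) := inferInstanceAs (IsIso (pullback.fst q (Spec.map (CommRingCat.ofHom (algebraMap k k)))))
  obtain ⟨z', rfl⟩ := (FBase.bcπ q k).surjective z
  haveI := h k z' rfl
  exact isReduced_of_injective ((FBase.bcπ q k).stalkMap z').hom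
    (ConcreteCategory.bijective_of_isIso ((FBase.bcπ q k).stalkMap z')).injective

end Groth.Agent.SecComp5
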