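import Groth.Agent.SecComp5.Fibre
import Groth.Agent.SecComp5.Good
import Groth.Agent.S4450
import Groth.Agent.S3417
import Groth.Agent.S4621

/-!
# Generizations of the component of a section at a geometrically reduced fibre
-/

set_option autoImplicit false
set_option linter.style.haveILetI false
set_option backward.isDefEq.respectTransparency false
set_option backward.isDefEq.respectTransparency.types false

open AlgebraicGeometry CategoryTheory CategoryTheory.Limits TopologicalSpace

namespace Groth.Agent.SecComp5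

universe u

variable {X S : Scheme.{u}} (f : X ⟶ S) (e : S ⟶ X) (he : e ≫ f = 𝟙 S)

include he

theorem isConnected_preimage (s : S) (L : Type u) [Field L] (a : S.residueField s →+* L) :
    _root_.IsConnected (pullback.fst f (Spec.map (CommRingCat.ofHom a) ≫ S.fromSpecResidueField s) ⁻¹'
      MoreMor.sectionComponents f e) := by
  letI : Algebra (S.residueField s) L := a.toAlgebra
  let q := f.fiberToSpecResidueField s
  haveI : GeometricallyConnected (𝟙 (Spec (CommRingCat.of (S.residueField s)))) := by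
    refine ⟨geometrically_iff_of_isClosedUnderIsomorphisms.mpr fun L' _ x => ?_⟩
    rw [(asIso (pullback.snd (𝟙 (Spec (CommRingCat.of (S.residueField s)))) x)).hom.homeomorph.connectedSpace_iff]
    exact { toPreconnectedSpace := inferInstance, toNonempty := ⟨IsLocalRing.closedPoint L'⟩ }
  have h := S4621.result (k := S.residueField s) (K := L) q (𝟙 _) (fibreSection f e he s) (pullback.lift_snd _ _ _)
    (IsLocalRing.closedPoint (S.residueField s))
  let x := Spec.map (CommRingCat.ofHom a)
  let e' := pullbackLeftPullbackSndIso f (S.fromSpecResidueField s) x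
  have heq : pullback.fst f (x ≫ S.fromSpecResidueField s) ⁻¹' MoreMor.sectionComponents f e =
      e'.hom '' (pullback.fst (f.fiberToSpecResidueField s) x ⁻¹'
        connectedComponent (fibreSection f e he s (IsLocalRing.closedPoint (S.residueField s)))) := by
    ext y
    obtain ⟨y, rfl⟩ : ∃ z, e'.hom z = y := e'.hom.surjective y
    rw [e'.hom.isOpenEmbedding.injective.mem_set_image, Set.mem_preimage, Set.mem_preimage,
      ← fiberι_mem_iff f e he s]
    have : pullback.fst f (x ≫ S.fromSpecResidueField s) (e'.hom y) =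
        f.fiberι s (pullback.fst (f.fiberToSpecResidueField s) x y) := by
      rw [← Scheme.Hom.comp_apply, pullbackLeftPullbackSndIso_hom_fst, Scheme.Hom.comp_apply]
      rfl
    rw [this]
  rw [heq]
  exact h.image _ e'.hom.continuous.continuousOn

theorem mem_of_specializes_same {x x' : X} (hx : x ∈ MoreMor.sectionComponents f e) (h : x' ⤳ x)
    (hf : f x' = f x) : x' ∈ MoreMor.sectionComponents f e := by
  have hpre : _root_.IsPreconnected ({x', x} : Set X) :=
    (isPreconnected_singleton (x := x')).subset_closure (Set.singleton_subset_iff.2 (Or.inl rfl)) (by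
      rintro y (rfl | rfl)
      · exact subset_closure rfl
      · exact h.mem_closure)
  show x' ∈ connectedComponentIn (f ⁻¹' {f x'}) (e (f x'))
  rw [hf]
  have hxm : x ∈ connectedComponentIn (f ⁻¹' {f x}) (e (f x)) := hx
  rw [connectedComponentIn_eq hxm]
  exact hpre.subset_connectedComponentIn (Or.inr rfl) (by
    rintro y (rfl | rfl)
    · exact hf
    · rfl) (Or.inl rfl)

variable [IsLocallyNoetherian S] [LocallyOfFiniteType f]

/-- Generizations of a good component of a section stay in the components of the section. -/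
theorem mem_of_specializes_good {x x' : X} (hx : x ∈ MoreMor.sectionComponents f e) (h : x' ⤳ x)
    (hgood : ∀ z ∈ MoreMor.sectionComponents f e, f z = f x → Good f z) :
    x' ∈ MoreMor.sectionComponents f e := by
  by_cases hf : f x' = f x
  · exact mem_of_specializes_same f e he hx h hf
  have hne : x ≠ x' := fun e' => hf (by rw [e'])
  haveI : IsLocallyNoetherian X := LocallyOfFiniteType.isLocallyNoetherian f
  obtain ⟨A, g, hA, hg1, hg2⟩ := S4450.result (𝟙 X) x' x h hne
  rw [Category.comp_id] at hg2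
  let O := CommRingCat.of A
  let cl : Spec O := IsLocalRing.closedPoint A
  let gp : Spec O := Spec.map (CommRingCat.ofHom A.subtype) (IsLocalRing.closedPoint (X.residueField x'))
  have hgp : gp.asIdeal = ⊥ := by
    show (IsLocalRing.maximalIdeal (X.residueField x')).comap A.subtype = ⊥
    rw [IsLocalRing.maximalIdeal_eq_bot]
    exact (RingHom.injective_iff_ker_eq_bot A.subtype).mp Subtype.val_injective
  have hb : ∀ z : Spec O, gp ⤳ z := fun z => (PrimeSpectrum.le_iff_specializes gp z).1 (by
    show gp.asIdeal ≤ z.asIdeal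
    rw [hgp]; exact bot_le)
  have hggp : g gp = x' := by
    show g (Spec.map (CommRingCat.ofHom A.subtype) _) = x'
    rw [← Scheme.Hom.comp_apply, hg2]
    exact Scheme.fromSpecResidueField_apply _ _
  let hY : Spec O ⟶ S := g ≫ f
  have hYcl : hY cl = f x := by show f (g cl) = f x; rw [hg1]
  have hYgp : hY gp = f x' := by show f (g gp) = f x'; rw [hggp]
  have hclgp : gp ≠ cl := fun e' => hf (by rw [← hYgp, e', hYcl])
  have hclosed : IsClosed ({cl} : Set (Spec O)) :=
    (PrimeSpectrum.isClosed_singleton_iff_isMaximal cl).2 (IsLocalRing.maximalIdeal.isMaximal A)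
  have hcases : ∀ t : Spec O, t = gp ∨ t = cl := fun t => by
    by_cases ht : t.asIdeal = ⊥
    · exact Or.inl (PrimeSpectrum.ext (ht.trans hgp.symm))
    · exact Or.inr (PrimeSpectrum.ext (IsLocalRing.eq_maximalIdeal (t.isPrime.isMaximal ht)))
  let P := pullback f hY
  let π := pullback.fst f hY
  let f' := pullback.snd f hY
  haveI : LocallyOfFiniteType f' := MorphismProperty.pullback_snd (P := @LocallyOfFiniteType) _ _ inferInstance
  haveI : IsLocallyNoetherian P := LocallyOfFiniteType.isLocallyNoetherian f'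
  haveI := locallyConnectedSpace P
  let σ : Spec O ⟶ P := pullback.lift g (𝟙 _) (by rw [Category.id_comp])
  let τ : Spec O ⟶ P := pullback.lift (hY ≫ e) (𝟙 _) (by rw [Category.assoc, he, Category.comp_id, Category.id_comp])
  have hπσ : ∀ t, π (σ t) = g t := fun t => by rw [← Scheme.Hom.comp_apply, pullback.lift_fst]
  have hπτ : ∀ t, π (τ t) = e (hY t) := fun t => by
    rw [← Scheme.Hom.comp_apply, pullback.lift_fst, Scheme.Hom.comp_apply]
  have hfσ : ∀ t, f' (σ t) = t := fun t => by rw [← Scheme.Hom.comp_apply, pullback.lift_snd]; rfl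
  have hfτ : ∀ t, f' (τ t) = t := fun t => by rw [← Scheme.Hom.comp_apply, pullback.lift_snd]; rfl
  have hfπ : ∀ z, f (π z) = hY (f' z) := fun z => by
    rw [← Scheme.Hom.comp_apply, pullback.condition, Scheme.Hom.comp_apply]
  let C : Set P := π ⁻¹' MoreMor.sectionComponents f e ∩ f' ⁻¹' {cl}
  -- the special component is connected
  have hCconn : _root_.IsPreconnected C := by
    let K := IsLocalRing.ResidueField A
    let c : Spec (CommRingCat.of K) ⟶ Spec O := Spec.map (CommRingCat.ofHom (IsLocalRing.residue A))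
    have hc : c (IsLocalRing.closedPoint K) = cl := IsLocalRing.comap_closedPoint (IsLocalRing.residue A)
    have hirr : _root_.IsConnected (pullback.fst f (c ≫ hY) ⁻¹' MoreMor.sectionComponents f e) := by
      obtain ⟨⟨s, φ⟩, hφ⟩ := (Scheme.SpecToEquivOfField K S).symm.surjective (c ≫ hY)
      replace hφ : Spec.map φ ≫ S.fromSpecResidueField s = c ≫ hY := hφ
      rw [← hφ]
      exact isConnected_preimage f e he s K φ.hom
    let m : pullback f (c ≫ hY) ⟶ P := pullback.map f (c ≫ hY) f hY (𝟙 _) c (𝟙 _) (by simp) (by simp)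
    have hm : C = m '' (pullback.fst f (c ≫ hY) ⁻¹' MoreMor.sectionComponents f e) := by
      have hmπ : ∀ t, π (m t) = pullback.fst f (c ≫ hY) t := fun t => by
        rw [← Scheme.Hom.comp_apply, pullback.lift_fst, Category.comp_id]
      have hmf : ∀ t, f' (m t) = c (pullback.snd f (c ≫ hY) t) := fun t => by
        rw [← Scheme.Hom.comp_apply, pullback.lift_snd, Scheme.Hom.comp_apply]
      ext z
      constructor
      · rintro ⟨hz, hzc⟩
        have hrc : Set.range c = {cl} := by
          refine subset_antisymm ?_ (Set.singleton_subset_iff.2 ⟨_, hc⟩)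
          rintro _ ⟨w, rfl⟩
          rw [Subsingleton.elim w (IsLocalRing.closedPoint K), hc]
          rfl
        have hzr : z ∈ Set.range m := by
          rw [Scheme.Pullback.range_map]
          refine ⟨⟨π z, rfl⟩, ?_⟩
          show f' z ∈ Set.range c
          rw [hrc]
          exact hzc
        obtain ⟨t, rfl⟩ := hzr
        exact ⟨t, by rw [Set.mem_preimage, ← hmπ]; exact hz, rfl⟩
      · rintro ⟨t, ht, rfl⟩
        refine ⟨by rw [Set.mem_preimage, hmπ]; exact ht, ?_⟩
        show f' (m t) = cl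
        rw [hmf, Subsingleton.elim (pullback.snd f (c ≫ hY) t) (IsLocalRing.closedPoint K), hc]
    rw [hm]
    exact (hirr.image m m.continuous.continuousOn).isPreconnected
  obtain ⟨O₀, hO₀⟩ := exists_open_inter f e he (f x)
  let W : P.Opens := ⟨π ⁻¹' (O₀ : Set X) ∪ (f' ⁻¹' {cl})ᶜ,
    (O₀.isOpen.preimage π.continuous).union (hclosed.preimage f'.continuous).isOpen_compl⟩
  have hCW : ∀ z, z ∈ W → f' z = cl → z ∈ C := fun z hz hzc => by
    rcases hz with hz | hz
    · exact ⟨((Set.ext_iff.1 hO₀ (π z)).1 ⟨hz, by show f (π z) = f x; rw [hfπ, hzc, hYcl]⟩).1, hzc⟩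
    · exact absurd hzc hz
  have hWC : C ⊆ (W : Set P) := fun z hz => Or.inl ((Set.ext_iff.1 hO₀ (π z)).2
    ⟨hz.1, by show f (π z) = f x; rw [hfπ, show f' z = cl from hz.2, hYcl]⟩).1
  have hσC : σ cl ∈ C := ⟨by show π (σ cl) ∈ MoreMor.sectionComponents f e; rw [hπσ, hg1]; exact hx, hfσ cl⟩
  have hτC : τ cl ∈ C := ⟨by show π (τ cl) ∈ MoreMor.sectionComponents f e; rw [hπτ]; exact section_mem f e he _, hfτ cl⟩
  let W₀ : P.Opens := ⟨connectedComponentIn (W : Set P) (σ cl), W.isOpen.connectedComponentIn⟩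
  have hW₀W : (W₀ : Set P) ⊆ W := connectedComponentIn_subset _ _
  have hW₀C : C ⊆ (W₀ : Set P) := hCconn.subset_connectedComponentIn hσC hWC
  have hW₀gen : ∀ (u : Spec O ⟶ P), (∀ t, f' (u t) = t) → u cl ∈ C → u gp ∈ W₀ := fun u hu hucl => by
    have hW' : u gp ∈ W := Or.inr (fun h' => hclgp ((hu gp).symm.trans h'))
    have hpre : _root_.IsPreconnected ({u gp, u cl} : Set P) :=
      (isPreconnected_singleton (x := u gp)).subset_closure (Set.singleton_subset_iff.2 (Or.inl rfl)) (by
        rintro y (rfl | rfl)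
        · exact subset_closure rfl
        · exact ((hb cl).map u.continuous).mem_closure)
    have h1 := hpre.subset_connectedComponentIn (x := u cl) (Or.inr rfl) (by
      rintro y (rfl | rfl)
      · exact hW'
      · exact hWC hucl) (Or.inl rfl)
    rwa [← connectedComponentIn_eq (hW₀C hucl)] at h1
  let h₀ : (W₀ : Scheme.{u}) ⟶ Spec O := W₀.ι ≫ f'
  haveI : PreconnectedSpace (W₀ : Scheme.{u}) := isPreconnected_iff_preconnectedSpace.1 isPreconnected_connectedComponentIn
  have hgoodP : ∀ z ∈ C, Good f' z := fun z hz => good_baseChange (IsPullback.of_hasPullback f hY)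
    (hgood (π z) hz.1 (by rw [hfπ, show f' z = cl from hz.2, hYcl]))
  have hopen : IsOpenMap h₀ := by
    intro U hU
    by_cases hcl' : cl ∈ h₀ '' U
    · obtain ⟨w, hwU, hwc⟩ := hcl'
      have hwC : W₀.ι w ∈ C := hCW _ (hW₀W w.2) hwc
      obtain ⟨hopenAt, -⟩ := good_openImmersion W₀.ι f' (hgoodP _ hwC)
      have hio := hopenAt (Spec O) (𝟙 _) ((asIso (pullback.fst (W₀.ι ≫ f') (𝟙 _))).inv w) (by
        rw [← Scheme.Hom.comp_apply, asIso_inv, IsIso.inv_hom_id]; rfl)
      refine isOpen_iff_mem_nhds.2 fun t ht => ?_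
      have hnhd : h₀ '' U ∈ nhds cl := by
        have h2 := hio ((pullback.fst (W₀.ι ≫ f') (𝟙 _)) ⁻¹' U)
          ((hU.preimage (Scheme.Hom.continuous _)).mem_nhds (by
            rw [Set.mem_preimage, ← Scheme.Hom.comp_apply, asIso_inv, IsIso.inv_hom_id]; exact hwU))
        have hcomp : ∀ v, pullback.snd (W₀.ι ≫ f') (𝟙 _) v = h₀ (pullback.fst (W₀.ι ≫ f') (𝟙 _) v) := fun v => by
          show _ = (pullback.fst (W₀.ι ≫ f') (𝟙 _) ≫ (W₀.ι ≫ f')) v
          rw [pullback.condition, Category.comp_id]
        rw [hcomp, ← Scheme.Hom.comp_apply (asIso _).inv, asIso_inv, IsIso.inv_hom_id] at h2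
        refine Filter.mem_of_superset (show _ ∈ nhds cl from (show h₀ w = cl from hwc) ▸ h2) ?_
        rintro _ ⟨v, hv, rfl⟩
        exact ⟨_, hv, (hcomp v).symm⟩
      obtain ⟨V, hV, hVo, hclV⟩ := mem_nhds_iff.1 hnhd
      have hVuniv : ∀ z, z ∈ V := fun z => by
        rcases hcases z with rfl | rfl
        · exact (hb cl).mem_open hVo hclV
        · exact hclV
      exact mem_nhds_iff.2 ⟨V, hV, hVo, hVuniv t⟩
    · have : h₀ '' U = {gp} ∩ h₀ '' U := by
        refine (Set.inter_eq_right.2 fun t ht => ?_).symm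
        exact (hcases t).resolve_right fun e' => hcl' (e' ▸ ht)
      rw [this]
      have hgo : IsOpen ({gp} : Set (Spec O)) := by
        rw [show ({gp} : Set (Spec O)) = {cl}ᶜ from Set.ext fun t =>
          ⟨fun h h' => hclgp (h.symm.trans h'), fun h => (hcases t).resolve_right h⟩]
        exact hclosed.isOpen_compl
      rcases Set.eq_empty_or_nonempty ({gp} ∩ h₀ '' U) with h0 | ⟨t, ht, ht'⟩
      · rw [h0]; exact isOpen_empty
      · rw [Set.inter_eq_left.2 (Set.singleton_subset_iff.2 (show gp ∈ h₀ '' U from (ht : t = gp) ▸ ht'))]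
        exact hgo
  haveI : LocallyOfFiniteType h₀ := inferInstanceAs (LocallyOfFiniteType (W₀.ι ≫ f'))
  have hred : AlgebraicGeometry.IsReduced (h₀.fiber cl) := by
    haveI : ∀ z : h₀.fiber cl, _root_.IsReduced ((h₀.fiber cl).presheaf.stalk z) := fun z => by
      have hzc : h₀ (h₀.fiberι cl z) = cl := (h₀.range_fiberι cl).le ⟨z, rfl⟩
      have hzC : W₀.ι (h₀.fiberι cl z) ∈ C := hCW _ (hW₀W (h₀.fiberι cl z).2) hzc
      exact isReduced_stalk_of_geomReducedAt (k := (Spec O).residueField cl) (h₀.fiberToSpecResidueField cl) z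
        ((good_openImmersion W₀.ι f' (hgoodP _ hzC)).2 cl z rfl)
    exact isReduced_of_isReduced_stalk _
  have hpc := S3417.result A h₀ hopen cl gp hclosed hb hred
  have hpre : _root_.IsPreconnected (Set.range (fun z : h₀.fiber gp => π (W₀.ι (h₀.fiberι gp z)))) :=
    isPreconnected_range (π.continuous.comp (W₀.ι.continuous.comp (h₀.fiberι gp).continuous))
  have hmemR : ∀ u : Spec O ⟶ P, (∀ t, f' (u t) = t) → u cl ∈ C →
      π (u gp) ∈ Set.range (fun z : h₀.fiber gp => π (W₀.ι (h₀.fiberι gp z))) := fun u hu hucl => by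
    obtain ⟨z, hz⟩ : (⟨u gp, hW₀gen u hu hucl⟩ : (W₀ : Scheme.{u})) ∈ Set.range (h₀.fiberι gp) := by
      rw [h₀.range_fiberι]; exact hu gp
    exact ⟨z, by simp only [hz]; rfl⟩
  have h1 := hmemR σ hfσ hσC
  have h2 := hmemR τ hfτ hτC
  rw [hπσ, hggp] at h1
  rw [hπτ, hYgp] at h2
  refine hpre.subset_connectedComponentIn h2 ?_ h1
  rintro _ ⟨z, rfl⟩
  show f (π (W₀.ι (h₀.fiberι gp z))) = f x'
  rw [hfπ, show f' (W₀.ι (h₀.fiberι gp z)) = gp from (h₀.range_fiberι gp).le ⟨z, rfl⟩, hYgp]

end Groth.Agent.SecComp5
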